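import Cfsg.Agent.H6.Sq.Sol3
import Cfsg.Agent.H2.SzGraph

/-! The spectrum of the direct square of a Suzuki group: arithmetic. -/

set_option autoImplicit false
set_option linter.unusedSectionVars false

namespace Cfsg.Agent.H6.Sq

universe u

variable {a b i j k m n p : ℕ}

/-- the maximal orders of elements of `Sz (2 ^ (2 * m + 1))` -/
def M (m : ℕ) : ℕ → ℕ
  | 0 => 4
  | 1 => 2 ^ (2 * m + 1) - 1
  | 2 => 2 ^ (2 * m + 1) - 2 ^ (m + 1) + 1
  | _ => 2 ^ (2 * m + 1) + 2 ^ (m + 1) + 1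

/-- the class of a prime -/
def ka (m p : ℕ) : ℕ :=
  if p ∣ M m 0 then 0 else if p ∣ M m 1 then 1 else if p ∣ M m 2 then 2 else 3

theorem M0 : M m 0 = 4 := rfl
theorem M1 : M m 1 = 2 ^ (2 * m + 1) - 1 := rfl
theorem M2 : M m 2 = 2 ^ (2 * m + 1) - 2 ^ (m + 1) + 1 := rfl
theorem M3 : M m 3 = 2 ^ (2 * m + 1) + 2 ^ (m + 1) + 1 := rfl

theorem pw (m : ℕ) : ∃ s, 1 ≤ s ∧ (1 ≤ m → 2 ≤ s) ∧ (2 ≤ m → 4 ≤ s) ∧ 2 ^ (m + 1) = 2 * s ∧
    2 ^ (2 * m + 1) = 2 * (s * s) ∧ s ≤ s * s ∧ 2 ^ m = s :=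
  ⟨2 ^ m, Nat.one_le_two_pow, fun h => Nat.pow_le_pow_right two_pos h,
    fun h => Nat.pow_le_pow_right two_pos h, by ring, by ring,
    Nat.le_mul_self _, rfl⟩

theorem M32 : M m 3 = M m 2 + 2 ^ (m + 2) := by
  obtain ⟨s, -, -, -, h1, h2, h3, h4⟩ := pw m
  rw [M2, M3, h1, h2, pow_add, h4]; omega

theorem M23 : M m 2 * M m 3 = (2 ^ (2 * m + 1)) ^ 2 + 1 := by
  obtain ⟨s, -, -, -, h1, h2, h3, -⟩ := pw m
  rw [M2, M3, h1, h2]
  zify [show 2 * s ≤ 2 * (s * s) by omega]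
  ring

theorem cop_pred (ha : Odd a) (b : ℕ) : Nat.Coprime (2 ^ a - 1) ((2 ^ b) ^ 2 + 1) := by
  refine Nat.Coprime.symm (Nat.coprime_of_dvd fun p hp h1 h2 => ?_)
  have := Fact.mk hp
  have e1 : (2 : ZMod p) ^ a = 1 := by
    have := (ZMod.natCast_eq_zero_iff _ _).2 h2
    rw [Nat.cast_sub Nat.one_le_two_pow] at this
    push_cast at this
    exact sub_eq_zero.1 this
  have e2 : ((2 : ZMod p) ^ b) ^ 2 = -1 := by
    have := (ZMod.natCast_eq_zero_iff _ _).2 h1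
    push_cast at this
    exact eq_neg_of_add_eq_zero_left this
  have e3 : ((2 : ZMod p) ^ a) ^ (2 * b) = (-1) ^ a := by rw [← e2]; ring
  rw [e1, one_pow, ha.neg_one_pow] at e3
  have e4 : (2 : ZMod p) = 0 := by linear_combination e3
  rw [e4, zero_pow ha.pos.ne'] at e1
  exact zero_ne_one e1

theorem odd_pred (ha : a ≠ 0) : Odd (2 ^ a - 1) := by
  obtain ⟨b, rfl⟩ := Nat.exists_eq_succ_of_ne_zero ha
  have : 1 ≤ 2 ^ b := Nat.one_le_two_pow
  exact ⟨2 ^ b - 1, by rw [pow_succ]; omega⟩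

theorem odd_M (hi : i ≠ 0) : Odd (M m i) := by
  obtain ⟨s, h0, -, -, h1, h2, h3, -⟩ := pw m
  match i, hi with
  | 1, _ => exact odd_pred (by omega)
  | 2, _ => exact ⟨s * s - s, by rw [M2, h1, h2]; omega⟩
  | k + 3, _ => exact ⟨s * s + s, by change M m 3 = _; rw [M3, h1, h2]; omega⟩

theorem cop_four (h : Odd k) : Nat.Coprime k 4 :=
  Nat.Coprime.pow_right 2 (Nat.coprime_two_right.2 h)

theorem cop_pred2 (ha : Odd a) : Nat.Coprime (2 ^ a - 1) (M m 2) :=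
  (cop_pred ha _).coprime_dvd_right (M23 ▸ Dvd.intro _ rfl)

theorem cop_pred3 (ha : Odd a) : Nat.Coprime (2 ^ a - 1) (M m 3) :=
  (cop_pred ha _).coprime_dvd_right (M23 ▸ Dvd.intro_left _ rfl)

theorem cop23 : Nat.Coprime (M m 2) (M m 3) := by
  rw [M32, Nat.coprime_self_add_right]
  exact Nat.Coprime.pow_right _ (Nat.coprime_two_right.2 (odd_M two_ne_zero))

theorem cop_M (hi : i < 4) (hj : j < 4) (h : i ≠ j) : Nat.Coprime (M m i) (M m j) := by
  have o := odd_two_mul_add_one m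
  have c1 := cop_four (odd_M (m := m) one_ne_zero)
  have c2 := cop_four (odd_M (m := m) two_ne_zero)
  have c3 := cop_four (odd_M (m := m) three_ne_zero)
  have c4 := cop_pred2 (m := m) o
  have c5 := cop_pred3 (m := m) o
  have c6 := cop23 (m := m)
  interval_cases i <;> interval_cases j <;>
    first | exact absurd rfl h | assumption | (apply Nat.Coprime.symm; assumption)

theorem ka_eq (hp : p.Prime) (hi : i < 4) (h : p ∣ M m i) : ka m p = i := by
  have key : ∀ j, j < 4 → i ≠ j → ¬ p ∣ M m j := fun j hj hij h' =>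
    hp.one_lt.ne' (Nat.eq_one_of_dvd_coprimes (cop_M hi hj hij) h h')
  unfold ka
  interval_cases i
  · rw [if_pos h]
  · rw [if_neg (key 0 (by omega) (by omega)), if_pos h]
  · rw [if_neg (key 0 (by omega) (by omega)), if_neg (key 1 (by omega) (by omega)), if_pos h]
  · rw [if_neg (key 0 (by omega) (by omega)), if_neg (key 1 (by omega) (by omega)),
      if_neg (key 2 (by omega) (by omega))]

theorem ka_two : ka m 2 = 0 := ka_eq Nat.prime_two (by omega) (by rw [M0]; norm_num)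

theorem ka_ne_zero (hp : p.Prime) (h : p ≠ 2) : ka m p ≠ 0 := by
  unfold ka
  rw [if_neg fun e : p ∣ M m 0 => h ((Nat.prime_dvd_prime_iff_eq hp Nat.prime_two).1
    (hp.dvd_of_dvd_pow (n := 2) e))]
  split_ifs <;> omega

theorem dvd_of_ka_one (h : ka m p = 1) : p ∣ M m 1 := by
  unfold ka at h
  split_ifs at h <;> first | assumption | omega

theorem ka_succ (hp : p.Prime) (h : p ∣ (2 ^ b) ^ 2 + 1) (hb : b ≠ 0) :
    ka m p ≠ 0 ∧ ka m p ≠ 1 := by
  refine ⟨ka_ne_zero hp fun e => ?_, fun e => hp.one_lt.ne' (Nat.eq_one_of_dvd_coprimes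
    (cop_pred (odd_two_mul_add_one m) b) (dvd_of_ka_one e) h)⟩
  subst e
  have : 2 ∣ (2 ^ b) ^ 2 := dvd_pow (dvd_pow_self 2 hb) two_ne_zero
  omega

theorem five_dvd (m : ℕ) : 5 ∣ (2 ^ (2 * m + 1)) ^ 2 + 1 := by
  have hq := H2.two_pow_odd_mod m
  rw [Nat.dvd_iff_mod_eq_zero, Nat.add_mod, Nat.pow_mod]
  rcases (show 2 ^ (2 * m + 1) % 5 = 2 ∨ 2 ^ (2 * m + 1) % 5 = 3 by omega) with h | h <;> rw [h]

theorem ka_five : ka m 5 ≠ 0 ∧ ka m 5 ≠ 1 := ka_succ Nat.prime_five (five_dvd 0) (by omega)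

theorem not_three_M (hi : i < 4) : ¬ 3 ∣ M m i := by
  have h := H2.not_three_dvd_suzuki m
  rw [← M23, ← M1] at h
  interval_cases i
  · rw [M0]; norm_num
  · exact fun e => h (e.mul_left _)
  · exact fun e => h (((e.mul_right _).mul_left _).mul_right _)
  · exact fun e => h (((e.mul_left _).mul_left _).mul_right _)

theorem eq_five (hp : p.Prime) (h : p ∣ (2 ^ p) ^ 2 + 1) : p = 5 := by
  have := Fact.mk hp
  have e := (ZMod.natCast_eq_zero_iff _ _).2 h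
  push_cast at e
  rw [ZMod.pow_card] at e
  have e' : ((5 : ℕ) : ZMod p) = 0 := by push_cast; linear_combination e
  exact (Nat.prime_dvd_prime_iff_eq hp Nat.prime_five).1 ((ZMod.natCast_eq_zero_iff _ _).1 e')

theorem one_lt_M (hm : 1 ≤ m) : 1 < M m i := by
  obtain ⟨s, h0, h, -, h1, h2, h3, -⟩ := pw m
  have := h hm
  have : 2 * s ≤ s * s := Nat.mul_le_mul_right s this
  match i with
  | 0 => rw [M0]; omega
  | 1 => rw [M1, h2]; omega
  | 2 => rw [M2, h1, h2]; omega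
  | k + 3 => change 1 < M m 3; rw [M3, h1, h2]; omega

theorem half_lt_M (hm : 1 ≤ m) (hi : i ≠ 0) : M m 1 < 2 * M m i := by
  obtain ⟨s, h0, h, -, h1, h2, h3, -⟩ := pw m
  have := h hm
  have : 2 * s ≤ s * s := Nat.mul_le_mul_right s this
  match i, hi with
  | 1, _ => rw [M1, h2]; omega
  | 2, _ => rw [M1, M2, h1, h2]; omega
  | k + 3, _ => change _ < 2 * M m 3; rw [M1, M3, h1, h2]; omega

theorem le_M3 (hm : 1 ≤ m) : M m i ≤ M m 3 := by
  obtain ⟨s, h0, h, -, h1, h2, h3, -⟩ := pw m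
  have := h hm
  match i with
  | 0 => rw [M0, M3, h1, h2]; omega
  | 1 => rw [M1, M3, h1, h2]; omega
  | 2 => rw [M2, M3, h1, h2]; omega
  | k + 3 => exact le_rfl

theorem M3_lt_M2 (hk : 1 ≤ k) (h : k < m) : M k 3 < M m 2 := by
  obtain ⟨s, h0, h', -, h1, h2, h3, h4⟩ := pw k
  obtain ⟨t, -, -, -, g1, g2, g3, g4⟩ := pw m
  have := h' hk
  have e : 2 * s ≤ t := by
    rw [← h4, ← g4, ← pow_succ']; exact Nat.pow_le_pow_right two_pos h
  rw [M2, M3, h1, h2, g1, g2]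
  have : s * s + s + t < t * t := by nlinarith
  omega

theorem le_of_pred_dvd (hb : b ≠ 0) (h : 2 ^ a - 1 ∣ 2 ^ b - 1) : a ≤ b := by
  have h1 : 2 ^ 1 ≤ 2 ^ b := Nat.pow_le_pow_right two_pos (by omega)
  have h2 := Nat.le_of_dvd (by omega) h
  have h3 : 1 ≤ 2 ^ a := Nat.one_le_two_pow
  exact (Nat.pow_le_pow_iff_right one_lt_two).1 (by omega)

theorem card_inj (h : (2 ^ a) ^ 2 * ((2 ^ a) ^ 2 + 1) * (2 ^ a - 1) =
    (2 ^ b) ^ 2 * ((2 ^ b) ^ 2 + 1) * (2 ^ b - 1)) : a = b := by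
  have key : ∀ a b : ℕ, a < b → (2 ^ a) ^ 2 * ((2 ^ a) ^ 2 + 1) * (2 ^ a - 1) <
      (2 ^ b) ^ 2 * ((2 ^ b) ^ 2 + 1) * (2 ^ b - 1) := fun a b hab => by
    have h1 : 2 ^ a < 2 ^ b := Nat.pow_lt_pow_right one_lt_two hab
    have h2 : 1 ≤ 2 ^ a := Nat.one_le_two_pow
    refine Nat.mul_lt_mul_of_le_of_lt (by gcongr) (by omega) (by positivity)
  rcases lt_trichotomy a b with e | e | e
  exacts [absurd h (key a b e).ne, e, absurd h (key b a e).ne']

/-- the orders of the elements of `G` are orders of elements of the square of the Suzuki group -/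
def Od (G : Type*) [Group G] (m : ℕ) : Prop :=
  ∀ g : G, ∃ i j, i < 4 ∧ j < 4 ∧ i ≠ j ∧ orderOf g ∣ M m i * M m j

/-- the orders of elements of the square of the Suzuki group are orders of elements of `G` -/
def Ex (G : Type*) [Group G] (m : ℕ) : Prop :=
  ∀ i j, i < 4 → j < 4 → i ≠ j → ∃ g : G, orderOf g = M m i * M m j

variable {G : Type u} [Group G] [Finite G]

theorem Od.map {G' : Type*} [Group G'] (h : Od G m) (f : G →* G') (hf : Function.Surjective f) :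
    Od G' m := fun g => by
  obtain ⟨x, rfl⟩ := hf g
  obtain ⟨i, j, h1, h2, h3, h4⟩ := h x
  exact ⟨i, j, h1, h2, h3, (orderOf_map_dvd f x).trans h4⟩

theorem Od.nt (h : Od G m) (X : Subgroup G) : NT (ka m) X := fun x _ p q r hp hq hr h1 h2 h3 => by
  obtain ⟨i, j, hi, hj, -, h4⟩ := h x
  have key : ∀ {p : ℕ}, p.Prime → p ∣ orderOf x → ka m p = i ∨ ka m p = j := fun hp e =>
    ((Nat.Prime.dvd_mul hp).1 (e.trans h4)).imp (ka_eq hp hi) (ka_eq hp hj)
  have := key hp h1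
  have := key hq h2
  have := key hr h3
  omega

theorem Od.no8 (h : Od G m) (g : G) : ¬ 8 ∣ orderOf g := fun e => by
  obtain ⟨i, j, hi, hj, hij, h4⟩ := h g
  have key : ∀ i j, j ≠ 0 → ¬ 8 ∣ M m i * M m j := fun i j hj e => by
    have h5 := (Nat.Coprime.pow_left 3 (Nat.coprime_two_left.2 (odd_M hj))).dvd_of_dvd_mul_right e
    rcases eq_or_ne i 0 with rfl | hi
    · rw [M0] at h5; omega
    · obtain ⟨k, hk⟩ := odd_M (m := m) hi
      omega
  rcases eq_or_ne j 0 with rfl | hj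
  · exact key 0 i hij (mul_comm (M m 0) _ ▸ e.trans h4)
  · exact key i j hj (e.trans h4)

theorem Od.not_three (h : Od G m) : ¬ 3 ∣ Nat.card G := fun e => by
  have := Fact.mk Nat.prime_three
  obtain ⟨g, hg⟩ := exists_prime_orderOf_dvd_card' 3 e
  obtain ⟨i, j, hi, hj, -, h4⟩ := h g
  rw [hg] at h4
  exact ((Nat.Prime.dvd_mul Nat.prime_three).1 h4).elim (not_three_M hi) (not_three_M hj)

theorem Od.dvd_M (h : Od G m) {g : G} (hp : p.Prime) (e : p ∣ orderOf g) : p ∣ M m (ka m p) := by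
  obtain ⟨i, j, hi, hj, -, h4⟩ := h g
  rcases (Nat.Prime.dvd_mul hp).1 (e.trans h4) with h5 | h5
  · rwa [ka_eq hp hi h5]
  · rwa [ka_eq hp hj h5]

theorem Od.pred_dvd (h : Od G m) {g : G} (ha : Odd a) (e : orderOf g = 2 ^ a - 1) :
    2 ^ a - 1 ∣ M m 1 := by
  obtain ⟨i, j, hi, hj, hij, h4⟩ := h g
  have key : ∀ i, i < 4 → i ≠ 1 → Nat.Coprime (2 ^ a - 1) (M m i) := fun i hi h1 => by
    interval_cases i
    exacts [cop_four (odd_pred ha.pos.ne'), absurd rfl h1, cop_pred2 ha, cop_pred3 ha]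
  rw [e] at h4
  rcases eq_or_ne i 1 with rfl | h1
  · exact (key j hj hij.symm).dvd_of_dvd_mul_right h4
  rcases eq_or_ne j 1 with rfl | h2
  · exact (key i hi h1).dvd_of_dvd_mul_left h4
  rw [((key i hi h1).mul_right (key j hj h2)).eq_one_of_dvd h4]
  exact one_dvd _

end Cfsg.Agent.H6.Sq
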