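import Cfsg.Agent.H7.BG.S3b
import Cfsg.Agent.H6.S3.E1

/-! Solvable groups without elements whose order involves three classes of primes: tools. -/

set_option autoImplicit false
set_option linter.unusedSectionVars false

namespace Cfsg.Agent.H6.Sq

open Subgroup Cfsg.Agent.H7
open MulAut (conj)
open scoped Pointwise

universe u

variable {G : Type u} [Group G] [Finite G] {κ : ℕ → ℕ} {a b c d p q r s : ℕ}
  {A B C D E H K M N P Q R T U V W X Y : Subgroup G} {e g t u v w x y z : G}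

/-- no element of `X` has order divisible by primes of three different classes -/
def NT (κ : ℕ → ℕ) (X : Subgroup G) : Prop :=
  ∀ x ∈ X, ∀ p q r : ℕ, p.Prime → q.Prime → r.Prime → p ∣ orderOf x → q ∣ orderOf x →
    r ∣ orderOf x → κ p = κ q ∨ κ p = κ r ∨ κ q = κ r

theorem NT.mono (h : NT κ X) (hY : Y ≤ X) : NT κ Y := fun x hx => h x (hY hx)

theorem exists_ord (h : Commute x y) :
    ∃ z ∈ zpowers x ⊔ zpowers y, orderOf x ∣ orderOf z ∧ orderOf y ∣ orderOf z := by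
  obtain ⟨z, hz, e⟩ := h.exists_orderOf_eq_lcm
  refine ⟨z, ?_, e ▸ Nat.dvd_lcm_left _ _, e ▸ Nat.dvd_lcm_right _ _⟩
  have : Submonoid.closure ({x, y} : Set G) ≤ (zpowers x ⊔ zpowers y).toSubmonoid := by
    rw [Submonoid.closure_le]
    rintro _ (rfl | rfl)
    · exact mem_sup_left (mem_zpowers _)
    · exact mem_sup_right (mem_zpowers _)
  exact this hz

theorem NT.two (h : NT κ X) (hx : x ∈ X) (hy : y ∈ X) (hc : Commute x y) (hp : p.Prime)
    (hq : q.Prime) (hr : r.Prime) (h1 : p ∣ orderOf x) (h2 : q ∣ orderOf y) (h3 : r ∣ orderOf y)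
    (hpq : κ p ≠ κ q) (hpr : κ p ≠ κ r) (hqr : κ q ≠ κ r) : False := by
  obtain ⟨z, hz, e1, e2⟩ := exists_ord hc
  have := h z (sup_le (zpowers_le.2 hx) (zpowers_le.2 hy) hz) p q r hp hq hr (h1.trans e1)
    (h2.trans e2) (h3.trans e2)
  tauto

theorem NT.three (h : NT κ X) (hx : x ∈ X) (hy : y ∈ X) (hz : z ∈ X) (hxy : Commute x y)
    (hxz : Commute x z) (hyz : Commute y z) (hp : p.Prime)
    (hq : q.Prime) (hr : r.Prime) (h1 : p ∣ orderOf x) (h2 : q ∣ orderOf y) (h3 : r ∣ orderOf z)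
    (hpq : κ p ≠ κ q) (hpr : κ p ≠ κ r) (hqr : κ q ≠ κ r) : False := by
  obtain ⟨t, ht, e1, e2⟩ := exists_ord hyz
  have hc : t ∈ C₁[x] := sup_le (zpowers_le.2 (mem_cent1_iff.2 hxy.symm.eq))
    (zpowers_le.2 (mem_cent1_iff.2 hxz.symm.eq)) ht
  exact h.two hx (sup_le (zpowers_le.2 hy) (zpowers_le.2 hz) ht) (mem_cent1_iff.1 hc).symm hp hq hr
    h1 (h2.trans e1) (h3.trans e2) hpq hpr hqr

theorem dvd_ord [Fact p.Prime] (hA : IsPGroup p A) (hx : x ∈ A) (h1 : x ≠ 1) : p ∣ orderOf x := by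
  obtain ⟨k, hk⟩ := IsPGroup.orderOf_eq hA hx
  rcases k with _ | k
  · exact absurd (orderOf_eq_one_iff.1 hk) h1
  · exact hk ▸ dvd_pow_self p k.succ_ne_zero

theorem cent1_zpow (hp : (orderOf x).Prime) (hz : z ∈ zpowers x) (h1 : z ≠ 1) : C₁[z] = C₁[x] := by
  rw [cent1_eq_cent_of_card_prime (by rwa [Nat.card_zpowers]) hz h1, cent_zpowers]

theorem cent1_le_pow (x : G) (n : ℕ) : C₁[x] ≤ C₁[x ^ n] := fun _ h =>
  mem_cent1_iff.2 (Commute.pow_right (mem_cent1_iff.1 h) n).eq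

theorem semi1 (hp : (orderOf x).Prime) (h : K ⊓ C₁[x] = ⊥) : Semiregular K (zpowers x) :=
  fun _ hz h1 => by rwa [cent1_zpow hp hz h1]

theorem semi2 (hc : Commute x y) (hp : (orderOf x).Prime) (hq : (orderOf y).Prime)
    (hpq : orderOf x ≠ orderOf y) (h : K ⊓ C₁[x] = ⊥) (h' : K ⊓ C₁[y] = ⊥) :
    Semiregular K (zpowers x ⊔ zpowers y) := by
  intro g hg h1
  have hn : zpowers y ≤ C[zpowers x] := by
    rw [cent_zpowers]; exact zpowers_le.2 (mem_cent1_iff.2 hc.symm.eq)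
  obtain ⟨u, hu, v, hv, rfl⟩ := (mem_sup_of_norm (le_norm_of_le_cent hn)).1 hg
  by_cases hu1 : u = 1
  · subst hu1
    rw [one_mul] at h1 ⊢
    rwa [cent1_zpow hq hv h1]
  have huv : Commute u v := commute_of_mem_cent (hn hv) hu
  have hv1 : v ^ orderOf y = 1 := by
    rw [← Nat.card_zpowers]; exact pow_card_eq_one_of_mem hv
  have h2 : u ^ orderOf y ≠ 1 := fun e => hu1 (by
    have h3 := orderOf_dvd_of_pow_eq_one e
    have h4 := orderOf_dvd_card_of_mem hu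
    rw [Nat.card_zpowers] at h4
    exact orderOf_eq_one_iff.1
      (Nat.eq_one_of_dvd_coprimes ((Nat.coprime_primes hp hq).2 hpq) h4 h3))
  refine inf_eq_bot_mono h le_rfl ((cent1_le_pow _ (orderOf y)).trans ?_)
  rw [huv.mul_pow, hv1, mul_one, cent1_zpow hp (pow_mem hu _) h2]

/-- the three primes lemma -/
theorem three_aux (hs : Group.IsSolvable Y) (h1 : Y ≠ ⊥)
    (h : ∀ y ∈ Y, ∀ p q : ℕ, p.Prime → q.Prime → p ∣ orderOf y → q ∣ orderOf y → p = q)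
    (h3 : ∀ p q : ℕ, ∃ s : ℕ, s.Prime ∧ s ∣ Nat.card Y ∧ s ≠ p ∧ s ≠ q) : False := by
  have key : ∀ {x y : G} {p q : ℕ}, x ∈ Y → y ∈ Y → p.Prime → q.Prime → p ∣ orderOf x →
      q ∣ orderOf y → Commute x y → p = q := fun hx hy hp hq h1 h2 hc => by
    obtain ⟨z, hz, e1, e2⟩ := exists_ord hc
    exact h z (sup_le (zpowers_le.2 hx) (zpowers_le.2 hy) hz) _ _ hp hq (h1.trans e1) (h2.trans e2)
  obtain ⟨V, hV, hm⟩ := exists_minNormal_le h1 (le_norm_self Y)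
  obtain ⟨a, ha, hab⟩ := minnormal_solvable hm (sol_of_le hs hV)
  have := Fact.mk ha
  obtain ⟨R, hR⟩ := Hall_exists {a}ᶜ hs
  obtain ⟨b, hb, hbd, hba, -⟩ := h3 a a
  have hR1 : R ≠ ⊥ := fun e => by
    have := (hR.dvd_card_iff hb hba).2 hbd
    rw [e, card_bot] at this
    exact hb.one_lt.ne' (Nat.dvd_one.1 this)
  obtain ⟨W, hW, hm'⟩ := exists_minNormal_le hR1 (le_norm_self R)
  obtain ⟨c, hc, hcb⟩ := minnormal_solvable hm' (sol_of_le hs (hW.trans hR.le))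
  have := Fact.mk hc
  obtain ⟨d, hd, hdd, hda, hdc⟩ := h3 a c
  obtain ⟨z, hz, hzo⟩ := exists_orderOf_eq_prime hd ((hR.dvd_card_iff hd hda).2 hdd)
  have h4 : ∀ {p : ℕ} [Fact p.Prime] {A : Subgroup G}, A ≤ Y → IsPGroup p A → p ≠ d →
      A ⊓ C₁[z] = ⊥ := fun {p} hp {A} hA hP hpd => inf_eq_bot_of_forall fun x hx hx' =>
    by_contra fun e => hpd (key (hA hx) (hR.le hz) hp.out hd (dvd_ord hP hx e) (hzo ▸ dvd_rfl)
      (mem_cent1_iff.1 hx'))
  have h5 := (semi1 (hzo ▸ hd) (h4 (hW.trans hR.le) hcb.isPGroup hdc.symm)).le_cent_abelem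
    (zpowers_le.2 (hm'.norm hz)) hab ((hW.trans hR.le).trans hm.norm)
    (zpowers_le.2 (hm.norm (hR.le hz))) (hR.isPi.of_le hW)
    (by rw [cent_zpowers]; exact h4 hV hab.isPGroup hda.symm)
  obtain ⟨w, hw, hw1⟩ := exists_ne_one_of_ne_bot hm'.ne_bot
  obtain ⟨v, hv, hv1⟩ := exists_ne_one_of_ne_bot hm.ne_bot
  have h6 := key (hV hv) (hR.le (hW hw)) ha hc (dvd_ord hab.isPGroup hv hv1)
    (dvd_ord hcb.isPGroup hw hw1) (commute_of_mem_cent (h5 hw) hv)
  exact ((hR.isPi.of_le hW).mem hc (IsPGroup.dvd_card hcb.isPGroup hm'.ne_bot)) h6.symm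

/-- the centralizer of an element, if solvable, misses one of any three other classes -/
theorem NT.cent (h : NT κ X) (hY : Y ≤ X) (hs : Group.IsSolvable Y) (hx : x ∈ X) (hc : Y ≤ C₁[x])
    (hp : p.Prime) (hq : q.Prime) (hr : r.Prime) (hs' : s.Prime) (h0 : p ∣ orderOf x)
    (h1 : q ∣ Nat.card Y) (h2 : r ∣ Nat.card Y) (h3 : s ∣ Nat.card Y) (hpq : κ p ≠ κ q)
    (hpr : κ p ≠ κ r) (hps : κ p ≠ κ s) (hqr : κ q ≠ κ r) (hqs : κ q ≠ κ s) (hrs : κ r ≠ κ s) :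
    False := by
  obtain ⟨H, hH⟩ := Hall_exists {q, r, s} hs
  have e1 := (hH.dvd_card_iff hq (by simp)).2 h1
  have e2 := (hH.dvd_card_iff hr (by simp)).2 h2
  have e3 := (hH.dvd_card_iff hs' (by simp)).2 h3
  have n1 : q ≠ r := fun e => hqr (e ▸ rfl)
  have n2 : q ≠ s := fun e => hqs (e ▸ rfl)
  have n3 : r ≠ s := fun e => hrs (e ▸ rfl)
  refine three_aux (sol_of_le hs hH.le) (fun e => ?_) (fun y hy a b ha hb hay hby => ?_)
    fun a b => ?_
  · rw [e, card_bot] at e1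
    exact hq.one_lt.ne' (Nat.dvd_one.1 e1)
  · by_contra hab
    have m1 := hH.isPi.orderOf hy a ha hay
    have m2 := hH.isPi.orderOf hy b hb hby
    refine h.two hx (hY (hH.le hy)) (mem_cent1_iff.1 (hc (hH.le hy))).symm hp ha hb h0 hay hby
      ?_ ?_ ?_
    · rcases m1 with rfl | rfl | rfl <;> assumption
    · rcases m2 with rfl | rfl | rfl <;> assumption
    · rcases m1 with rfl | rfl | rfl <;> rcases m2 with rfl | rfl | rfl <;>
        first | exact absurd rfl hab | assumption | (symm; assumption)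
  · by_cases hq' : q ≠ a ∧ q ≠ b
    · exact ⟨q, hq, e1, hq'⟩
    by_cases hr' : r ≠ a ∧ r ≠ b
    · exact ⟨r, hr, e2, hr'⟩
    exact ⟨s, hs', e3, by omega⟩

theorem comm_cent_of_inv (h : ∀ m ∈ M, t * m * t⁻¹ = m⁻¹) (hg : g ∈ N[M]) :
    g * t * g⁻¹ * t⁻¹ ∈ C[M] := by
  refine mem_cent_of_conj_eq fun m hm => ?_
  have h1 : t⁻¹ * m * t = m⁻¹ := by
    have := h _ (M.inv_mem hm)
    rw [inv_inv] at this
    calc _ = t⁻¹ * (t * m⁻¹ * t⁻¹) * t := by rw [this]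
      _ = _ := by group
  have h2 := h _ (conj_mem_of_norm' hg (M.inv_mem hm))
  calc _ = g * (t * (g⁻¹ * (t⁻¹ * m * t) * g) * t⁻¹) * g⁻¹ := by group
    _ = _ := by rw [h1, h2]; group

theorem mem_zpowers_two (h : t * t = 1) (hx : x ∈ zpowers t) : x = 1 ∨ x = t := by
  have : zpowers t ≤ ⟨⟨⟨{x | x = 1 ∨ x = t}, ?_⟩, Or.inl rfl⟩, ?_⟩ := zpowers_le.2 (Or.inr rfl)
  · exact this hx
  · rintro _ _ (rfl | rfl) (rfl | rfl) <;> simp [h]
  · rintro _ (rfl | rfl)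
    · simp
    · exact Or.inr (S3.inv_eq_of_sq h)

theorem comm_le_of_inv (h2 : t * t = 1) (hn : t ∈ N[M]) (h : M ⊓ C₁[t] = ⊥) (hP : P ≤ N[M]) :
    ⁅P, zpowers t⁆ ≤ C[M] :=
  comm_le_iff.2 fun g hg x hx => by
    rcases mem_zpowers_two h2 hx with rfl | rfl
    · simp
    · exact comm_cent_of_inv (fun m hm => S3.inv_of_fpf h2 hn h hm) (hP hg)

theorem sq_of_ord (h : orderOf t = 2) : t * t = 1 := by rw [← sq, ← h, pow_orderOf_eq_one]

/-- an element of prime order without fixed points centralizes what it normalizes -/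
theorem comm_le_of_fpf (hK : Odd (Nat.card K)) (hd : d.Prime) (he : orderOf e = d)
    (hn : e ∈ N[K]) (hc : ¬ d ∣ Nat.card K) (hM : Group.IsSolvable M) (hKM : K ≤ N[M])
    (heM : e ∈ N[M]) (hcK : (Nat.card M).Coprime (Nat.card K)) (hcd : ¬ d ∣ Nat.card M)
    (h : M ⊓ C₁[e] = ⊥) : ⁅K, zpowers e⁆ ≤ C[M] := by
  rcases hd.eq_two_or_odd' with rfl | ho
  · exact comm_le_of_inv (sq_of_ord he) heM h hKM
  have hcard : Nat.card (zpowers e) = d := by rw [Nat.card_zpowers, he]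
  exact comm_le_cent_of_prime_fpf_sol (S3.sol_odd hK) hK (hcard ▸ ho) (hcard ▸ hd)
    (zpowers_le.2 hn) (hcard ▸ ((Nat.Prime.coprime_iff_not_dvd hd).2 hc).symm) hM hKM
    (zpowers_le.2 heM) hcK (hcard ▸ ((Nat.Prime.coprime_iff_not_dvd hd).2 hcd).symm)
    (by rwa [cent_zpowers])

theorem cent_cyc [hp : Fact p.Prime] (hB : IsCyclic B) (hP : IsPGroup p B) (hW : W ≤ B)
    (hc : Nat.card W = p) (hn : e ∈ N[B]) (ho : ¬ p ∣ orderOf e) (h : e ∈ C[W]) : e ∈ C[B] := by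
  refine zpowers_le.1 (coprime_abelian_faithful_Ohm1 hP (zpowers_le.2 hn)
    (IsPGroup.coprime_of_isPi hP (IsPi.of_not_dvd (by rwa [Nat.card_zpowers])))
    (abel_of_cyclic hB) ?_)
  rw [omegaOne_eq_of_cyclic hB hW hc]
  exact zpowers_le.2 h

theorem kl [hp : Fact p.Prime] (hs : Group.IsSolvable X) (hM : Group.IsSolvable M) (hM1 : M ≠ ⊥)
    (hn : X ≤ N[M]) (hpo : Odd p) (hd : d.Prime) (hdp : d < p) (hpi : IsPi {p, d}ᶜ M)
    (hf : ∀ z ∈ X, d ∣ orderOf z → M ⊓ C₁[z] = ⊥) (he : e ∈ X) (heo : orderOf e = d)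
    (hE : E ≤ X) (hab : Abelem p E) (hnc : ¬ IsCyclic E)
    (hN : ∀ N ≤ X, IsPGroup p N → N ≤ C[M] → e ∈ C[N]) :
    ∃ E ≤ X, Abelem p E ∧ ¬ IsCyclic E ∧ e ∈ C[E] := by
  have hd' := Fact.mk hd
  have hcard : Nat.card (zpowers e) = d := by rw [Nat.card_zpowers, heo]
  obtain ⟨T, hT, heT⟩ := Hall_superset (π := {p, d}) hs (zpowers_le.2 he)
    (IsPi.of_card_prime hd hcard (by simp))
  obtain ⟨P, hP⟩ := H7.exists_isSylowIn (p := p) T
  have hPd : IsPi {d}ᶜ P := IsPGroup.isPi_compl hP.isPGroup hdp.ne'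
  have hdM : ¬ d ∣ Nat.card M := fun h => hpi.mem hd h (by simp)
  have h1 : ⁅P, zpowers e⁆ ≤ C[M] := by
    rcases hd.eq_two_or_odd' with rfl | ho
    · exact comm_le_of_inv (sq_of_ord heo) (hn he) (hf e he (heo ▸ dvd_rfl))
        ((hP.le.trans hT.le).trans hn)
    obtain ⟨D, heD, hD⟩ := H7.exists_isSylowIn_ge (isPGroup_of_card_prime hcard) heT
    have hc := odd_regular_pgroup_cyclic hD.isPGroup (IsPGroup.odd_card hD.isPGroup ho) hM1
      ((hD.le.trans hT.le).trans hn) fun z hz h1 =>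
        hf z (hT.le (hD.le hz)) (dvd_ord hD.isPGroup hz h1)
    have h2 := cyclic_pdiv_normal_complement hD hc fun q hq hq' => by
      rcases hT.isPi.mem hq hq' with rfl | rfl
      exacts [hdp.le, le_rfl]
    have h3 : HallIn {d}ᶜ (O[{d}ᶜ] T) T :=
      h2.hall_left (isPi_core _ _) (IsPi.compl_compl.2 (IsPGroup.isPi_self hD.isPGroup))
    have h4 : IsPGroup p (O[{d}ᶜ] T) := IsPi.isPGroup (fun q hq hq' => by
      rcases hT.isPi.mem hq (hq'.trans (card_dvd_of_le h3.le)) with rfl | rfl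
      exacts [rfl, absurd rfl (h3.isPi.mem hq hq')]) hp.out
    refine (comm_mono_left (h3.le_core hP.le hPd)).trans (comm_le_of_fpf
      (IsPGroup.odd_card h4 hpo) hd heo (le_norm_core _ (le_norm_self T) (zpowers_le.1 heT))
      (h3.isPi.not_dvd hd) hM ((h3.le.trans hT.le).trans hn) (hn he)
      (hpi.coprime' (IsPGroup.isPi h4 (by simp))) hdM (hf e he (heo ▸ dvd_rfl)))
  have h5 : IsPGroup p ↥(T ⊓ C[M]) := IsPi.isPGroup (fun q hq hq' => by
    rcases hT.isPi.mem hq (hq'.trans (card_dvd_of_le inf_le_left)) with rfl | rfl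
    · rfl
    obtain ⟨z, hz, hzo⟩ := exists_orderOf_eq_prime hq hq'
    have := hf z (hT.le (mem_inf.1 hz).1) (hzo ▸ dvd_rfl)
    rw [inf_eq_left.2 (le_cent1_iff.2 (mem_inf.1 hz).2)] at this
    exact absurd this hM1) hp.out
  have h6 : ⁅P, zpowers e⁆ ≤ T ⊓ C[M] :=
    le_inf ((commutator_mono hP.le heT).trans (der_le T)) h1
  have h7 : T ⊓ C[M] ≤ P := hP.normalIn_le (NormalIn.inf_cent (hT.le.trans hn)) h5
  have h8 : zpowers e ≤ C[P] := le_cent_of_comm_le_cent (le_norm_of_comm_le_left (h6.trans h7))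
    (IsPGroup.coprime_of_isPi hP.isPGroup (IsPi.of_card_prime hd hcard hdp.ne))
    (sol_of_pgroup hP.isPGroup) (h6.trans (le_cent_symm (zpowers_le.2
      (hN _ (inf_le_left.trans hT.le) h5 inf_le_right))))
  obtain ⟨x, -, hx⟩ := Hall_Jsub hs hT hE (IsPGroup.isPi hab.isPGroup (by simp))
  obtain ⟨y, -, hy⟩ := hP.exists_conj_le (hab.smul x).isPGroup hx
  refine ⟨_, hy.trans (hP.le.trans hT.le), (hab.smul x).smul y, fun h => hnc ?_,
    cent_anti hy (zpowers_le.1 h8)⟩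
  have := cyclic_smul (cyclic_smul h y⁻¹) x⁻¹
  rwa [conj_inv_smul_smul, conj_inv_smul_smul] at this

theorem l2 [hb : Fact b.Prime] (hs : Group.IsSolvable X) (hc : IsCyclic (O[{b}] X)) (hN : N ≤ X)
    (hP : IsPGroup b N) (h : ∀ p : ℕ, p.Prime → p ≠ b → N ≤ C[O[{p}] X]) : N ≤ O[{b}] X := by
  have hF := fittingIn_isNilpotent X
  have hd := nil_core_dprod {b} hF
  rw [pcore_fitting] at hd
  set A := O[{b}ᶜ] (fittingIn X)
  have hA : NormalIn A X := (fittingIn_normalIn X).core _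
  have hH : NormalIn (X ⊓ C[A]) X := NormalIn.inf_cent hA.2
  have hNH : N ≤ X ⊓ C[A] := le_inf hN (le_cent_symm (le_of_nil_of_pcore_le
    (nil_of_le hF (core_le _ _)) fun p hp hp' =>
      (hA.core_le _).trans (le_cent_symm (h p hp ((isPi_core _ _).mem hp hp')))))
  obtain ⟨P, hNP, hS⟩ := H7.exists_isSylowIn_ge hP hNH
  have hB : O[{b}] X ≤ P := hS.normalIn_le ((core_normalIn _ X).mono
    (le_inf (core_le _ _) (le_cent_symm hd.cent)) inf_le_left) (isPGroup_core X)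
  have h1 : ⁅X ⊓ C[A], X ⊓ C[A]⁆ ≤ fittingIn X := by
    refine (le_inf ((der_le _).trans inf_le_left) ?_).trans (cent_sub_Fitting hs)
    rw [← hd.sup]
    exact le_cent_sup (der1_cent_cyclic hc (inf_le_left.trans (core_normalIn _ X).2))
      ((der_le _).trans inf_le_right)
  have h2 : NormalIn (P ⊔ (A ⊓ (X ⊓ C[A]))) (X ⊓ C[A]) := by
    refine NormalIn.of_der_le (fun x hx => ?_) (sup_le hS.le inf_le_right)
    obtain ⟨β, hβ, α, hα, rfl⟩ := hd.mem_iff.1 (h1 hx)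
    refine mul_mem (mem_sup_left (hB hβ)) (mem_sup_right (mem_inf.2 ⟨hα, ?_⟩))
    have := mul_mem (inv_mem (hS.le (hB hβ))) (der_le _ hx)
    rwa [inv_mul_cancel_left] at this
  have h3 := (hS.mono le_sup_left h2.1).norm_le_of_normal (sup_le (le_norm_self P)
    (le_norm_of_le_cent (inf_le_left.trans (le_cent_symm (hS.le.trans inf_le_right)))))
  exact hNP.trans ((NormalIn.le_pcore ⟨hS.le, h2.2.trans h3⟩ hS.isPGroup).trans (hH.core_le _))

end Cfsg.Agent.H6.Sq
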