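import Cfsg.Agent.H6.Sq.Sol1

/-! A solvable group whose order has four prime divisors, with all Sylow subgroups of rank at least
two, has an element of order divisible by three primes. -/

set_option autoImplicit false
set_option linter.unusedSectionVars false

namespace Cfsg.Agent.H6.Sq

open Subgroup Cfsg.Agent.H7
open MulAut (conj)
open scoped Pointwise

universe u

variable {G : Type u} [Group G] [Finite G] {κ : ℕ → ℕ} {a b c d p q r s : ℕ} {π : Set ℕ}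
  {A B C D E H K M N P Q R T U V W X Y : Subgroup G} {e g t u v w x y z : G}

/-- all Sylow subgroups have rank at least two -/
def RK (X : Subgroup G) : Prop :=
  ∀ p : ℕ, p.Prime → p ∣ Nat.card X → ∃ E ≤ X, Abelem p E ∧ ¬ IsCyclic E

theorem not_cyc_smul (h : ¬ IsCyclic E) (g : G) : ¬ IsCyclic ↥(conj g • E) := fun h' => h (by
  have := cyclic_smul h' g⁻¹
  rwa [conj_inv_smul_smul] at this)

theorem RK.hall (h : RK X) (hs : Group.IsSolvable X) (hY : HallIn π Y X) : RK Y :=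
  fun p hp hd => by
    have := Fact.mk hp
    obtain ⟨E, hE, hab, hn⟩ := h p hp (hd.trans (card_dvd_of_le hY.le))
    obtain ⟨x, -, hx⟩ := Hall_Jsub hs hY hE (IsPGroup.isPi hab.isPGroup (hY.isPi.mem hp hd))
    exact ⟨_, hx, hab.smul x, not_cyc_smul hn x⟩

theorem exists_min (hs : Group.IsSolvable X) (hN : NormalIn N X) (h1 : N ≠ ⊥) :
    ∃ W ≤ N, W ≠ ⊥ ∧ X ≤ N[W] ∧ ∃ p : ℕ, p.Prime ∧ Abelem p W := by
  obtain ⟨W, hW, hm⟩ := exists_minNormal_le h1 hN.2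
  exact ⟨W, hW, hm.ne_bot, hm.norm, minnormal_solvable hm (sol_of_le hs (hW.trans hN.1))⟩

theorem ne_bot_of_dvd (hp : p.Prime) (h : p ∣ Nat.card X) : X ≠ ⊥ := fun e => by
  rw [e, card_bot] at h
  exact hp.one_lt.ne' (Nat.dvd_one.1 h)

theorem le_cent_of_card [hp : Fact p.Prime] (hW : Nat.card W = p) (hE : IsPGroup p E)
    (hn : E ≤ N[W]) : E ≤ C[W] :=
  le_cent_symm ((NormalIn.le_cent_of_card_prime (NormalIn.sup_left hn) (nil_of_pgroup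
    (IsPGroup.sup_of_norm (isPGroup_of_card_prime hW) hE hn)) (hW ▸ hp.out)).trans
    (cent_anti le_sup_right))

theorem mem_cent_of_card (hW : (Nat.card W).Prime) (h : W ⊓ C₁[e] ≠ ⊥) : e ∈ C[W] :=
  le_cent1_iff.1 ((inf_eq_bot_or_le_of_card_prime _ hW).resolve_left h)

theorem lt_of_not_cent (hW : Nat.card W = c) (hc : c.Prime) (he : orderOf e = d) (hd : d.Prime)
    (hn : e ∈ N[W]) (h : e ∉ C[W]) : d < c ∧ Odd c := by
  have h1 : W ⊓ C₁[e] = ⊥ := by_contra fun h' => h (mem_cent_of_card (hW ▸ hc) h')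
  have h2 := regular_norm_dvd_pred (zpowers_le.2 hn) (semi1 (he ▸ hd) h1)
  rw [Nat.card_zpowers, he, hW] at h2
  have h3 := Nat.le_of_dvd (by have := hc.two_le; omega) h2
  have := hd.two_le
  exact ⟨by omega, hc.odd_of_ne_two (by omega)⟩

/-- `X` is an `a'`-group acting on the elementary abelian `a`-group `V` -/
structure Act (a : ℕ) (V X : Subgroup G) : Prop where
  pa : a.Prime
  ab : Abelem a V
  ne : V ≠ ⊥
  norm : X ≤ N[V]
  pi : IsPi {a}ᶜ X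
  nt : NT id (V ⊔ X)

namespace Act

theorem mono (k : Act a V X) (hY : Y ≤ X) : Act a V Y :=
  ⟨k.pa, k.ab, k.ne, hY.trans k.norm, k.pi.of_le hY, k.nt.mono (sup_le_sup_left hY _)⟩

theorem f0 (k : Act a V X) (hx : x ∈ X) (hy : y ∈ X) (hc : Commute x y) (hp : p.Prime)
    (hq : q.Prime) (h1 : p ∣ orderOf x) (h2 : q ∣ orderOf y) (hpq : p ≠ q) :
    V ⊓ C₁[x] ⊓ C₁[y] = ⊥ := by
  have := Fact.mk k.pa
  refine inf_eq_bot_of_forall fun v hv hv' => by_contra fun e => ?_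
  obtain ⟨hv, hv''⟩ := mem_inf.1 hv
  exact k.nt.three (mem_sup_left hv) (mem_sup_right hx) (mem_sup_right hy) (mem_cent1_iff.1 hv'')
    (mem_cent1_iff.1 hv') hc k.pa hp hq (dvd_ord k.ab.isPGroup hv e) h1 h2
    (k.pi.orderOf hx p hp h1 ∘ Eq.symm) (k.pi.orderOf hy q hq h2 ∘ Eq.symm) hpq

theorem f1 (k : Act a V X) [hp : Fact p.Prime] (hE : E ≤ X) (hab : Abelem p E)
    (hn : ¬ IsCyclic E) (hz : z ∈ X) (hc : z ∈ C[E]) (hq : q.Prime) (h : q ∣ orderOf z)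
    (hpq : q ≠ p) : V ⊓ C₁[z] = ⊥ := by
  by_contra h1
  obtain ⟨e, he, he1, h2⟩ := exists_cent1_ne_bot_of_not_cyclic hab.abel hn
    (le_norm_inf (hE.trans k.norm) (le_norm_cent1 (le_cent1_iff.2 hc))) h1
  exact h2 (k.f0 hz (hE he) (commute_of_mem_cent hc he).symm hq hp.out h
    (dvd_ord hab.isPGroup he he1) hpq)

theorem t1 (k : Act a V X) (hK : K ≤ X) (h : Semiregular K R) (hn : R ≤ N[K]) (hW : W ≤ V)
    (h1 : K ≤ N[W]) (h2 : R ≤ N[W]) (h3 : W ⊓ C[R] = ⊥) : K ≤ C[W] :=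
  have := Fact.mk k.pa
  h.le_cent_abelem hn (k.ab.of_le hW) h1 h2 (k.pi.of_le hK) h3

theorem t1' (k : Act a V X) (hK : K ≤ X) (hx : x ∈ X) (hp : (orderOf x).Prime)
    (h : K ⊓ C₁[x] = ⊥) (hn : x ∈ N[K]) (h3 : V ⊓ C₁[x] = ⊥) : K ≤ C[V] :=
  k.t1 hK (semi1 hp h) (zpowers_le.2 hn) le_rfl (hK.trans k.norm) (zpowers_le.2 (k.norm hx))
    (by rwa [cent_zpowers])

theorem cyc (k : Act a V X) (hW : W ≤ X) (hab : IsMulCommutative W) (h : Semiregular V W) :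
    IsCyclic W := h.cyclic_of_abel (hW.trans k.norm) k.ne hab

theorem cyc' (k : Act a V X) [Fact p.Prime] (hW : W ≤ X) (hP : IsPGroup p W) (ho : Odd p)
    (h : Semiregular V W) : IsCyclic W :=
  odd_regular_pgroup_cyclic hP (IsPGroup.odd_card hP ho) k.ne (hW.trans k.norm) h

theorem comm_ti (k : Act a V X) (hU : U ≤ V) (hx : x ∈ X) (hn : x ∈ N[U]) :
    ⁅U, zpowers x⁆ ⊓ C₁[x] = ⊥ := by
  have := Fact.mk k.pa
  rw [← cent_zpowers]
  exact coprime_abel_cent_TI (zpowers_le.2 hn) (IsPGroup.coprime_of_isPi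
    (k.ab.of_le hU).isPGroup (k.pi.of_le (zpowers_le.2 hx))) (k.ab.of_le hU).abel

theorem lemH1 (k : Act a V X) (hf : X ⊓ C[V] = ⊥) (k' : Act b U Y) (hU : U ≤ X) (hY : Y ≤ X)
    (hx : x ∈ Y) (hy : y ∈ Y) (hc : Commute x y) (hp : (orderOf x).Prime) (hq : (orderOf y).Prime)
    (hpq : orderOf x ≠ orderOf y) : ⁅U, zpowers x⁆ ≤ C₁[y] := by
  have h1 : ⁅U, zpowers x⁆ ≤ U := comm_le_left (zpowers_le.2 (k'.norm hx))
  have hyx : zpowers y ≤ N[zpowers x] :=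
    le_norm_zpowers (zpowers_le.2 (mem_cent1_iff.2 hc.symm.eq))
  have hxy : zpowers x ≤ N[zpowers y] := le_norm_zpowers (zpowers_le.2 (mem_cent1_iff.2 hc.eq))
  have h2 : zpowers y ≤ N[⁅U, zpowers x⁆] := le_norm_comm (zpowers_le.2 (k'.norm hy)) hyx
  have h3 := comm_le_left h2
  have h4 := k.t1 ((h3.trans h1).trans hU) (semi2 hc hp hq hpq
    (inf_eq_bot_mono (k'.comm_ti le_rfl hx (k'.norm hx)) h3 le_rfl)
    (k'.comm_ti h1 hy (zpowers_le.1 h2))) (sup_le (le_norm_comm (right_le_norm_comm _ _) hxy)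
    (right_le_norm_comm _ _)) le_rfl (((h3.trans h1).trans hU).trans k.norm)
    (sup_le (zpowers_le.2 (k.norm (hY hx))) (zpowers_le.2 (k.norm (hY hy))))
    (by rw [cent_sup, cent_zpowers, cent_zpowers, ← inf_assoc]
        exact k.f0 (hY hx) (hY hy) hc hp hq dvd_rfl dvd_rfl hpq)
  rw [← cent_zpowers, ← comm_eq_bot_iff, ← le_bot_iff, ← hf]
  exact le_inf ((h3.trans h1).trans hU) h4

theorem lemH (k : Act a V X) (hf : X ⊓ C[V] = ⊥) (k' : Act b U Y) (hU : U ≤ X) (hY : Y ≤ X)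
    (hx : x ∈ Y) (hy : y ∈ Y) (hc : Commute x y) (hp : (orderOf x).Prime) (hq : (orderOf y).Prime)
    (hpq : orderOf x ≠ orderOf y) : x ∈ C[U] ∨ y ∈ C[U] := by
  have := Fact.mk k'.pa
  by_contra! h
  have h1 := k.lemH1 hf k' hU hY hx hy hc hp hq hpq
  have n1 : ⁅U, zpowers x⁆ ≠ ⊥ := fun e => h.1 (zpowers_le.1 (comm_eq_bot_iff'.1 e))
  have n2 : ⁅U, zpowers y⁆ ≠ ⊥ := fun e => h.2 (zpowers_le.1 (comm_eq_bot_iff'.1 e))
  have l1 : ⁅U, zpowers x⁆ ≤ U := comm_le_left (zpowers_le.2 (k'.norm hx))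
  have l2 : ⁅U, zpowers y⁆ ≤ U := comm_le_left (zpowers_le.2 (k'.norm hy))
  have h3 : V ⊓ C₁[y] ≠ ⊥ := fun e => n2 (by
    rw [← le_bot_iff, ← hf]
    exact le_inf (l2.trans hU) (k.t1' (l2.trans hU) (hY hy) hq (k'.comm_ti le_rfl hy (k'.norm hy))
      (zpowers_le.1 (right_le_norm_comm _ _)) e))
  have h4 := k.t1 (l1.trans hU) (semi1 hp (k'.comm_ti le_rfl hx (k'.norm hx)))
    (right_le_norm_comm _ _) (W := V ⊓ C₁[y]) inf_le_left
    (le_norm_inf ((l1.trans hU).trans k.norm) (le_norm_cent1 h1))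
    (le_norm_inf (zpowers_le.2 (k.norm (hY hx)))
      (le_norm_cent1 (zpowers_le.2 (mem_cent1_iff.2 hc.eq))))
    (by rw [cent_zpowers]; exact k.f0 (hY hy) (hY hx) hc.symm hq hp dvd_rfl dvd_rfl hpq.symm)
  obtain ⟨u, hu, hu1⟩ := exists_ne_one_of_ne_bot n1
  have h5 := k.f0 (hY hy) (hU (l1 hu)) (mem_cent1_iff.1 (h1 hu)).symm hq k'.pa dvd_rfl
    (dvd_ord k'.ab.isPGroup (l1 hu) hu1) (k'.pi.orderOf hy _ hq dvd_rfl)
  exact h3 (by rw [← h5, inf_eq_left.2 (le_cent1_iff.2 (h4 hu))])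

end Act

theorem cmp (hs : Group.IsSolvable Y) (rk : RK Y)
    (h2 : ∀ p : ℕ, ∃ s : ℕ, s.Prime ∧ s ∣ Nat.card Y ∧ s ≠ p) :
    ∃ x ∈ Y, ∃ y ∈ Y, Commute x y ∧ (orderOf x).Prime ∧ (orderOf y).Prime ∧
      orderOf x ≠ orderOf y := by
  obtain ⟨s, hs1, hs2, -⟩ := h2 0
  obtain ⟨W, hW, hW1, hn, c, hc, hab⟩ := exists_min hs (NormalIn.refl Y) (ne_bot_of_dvd hs1 hs2)
  obtain ⟨d, hd, hdd, hdc⟩ := h2 c
  obtain ⟨E, hE, hab', hnc⟩ := rk d hd hdd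
  have := Fact.mk hc
  have := Fact.mk hd
  obtain ⟨e, he, he1, h⟩ := exists_cent1_ne_bot_of_not_cyclic hab'.abel hnc (hE.trans hn) hW1
  obtain ⟨w, hw, hw1⟩ := exists_ne_one_of_ne_bot h
  have e1 := hab.orderOf_eq (mem_inf.1 hw).1 hw1
  have e2 := hab'.orderOf_eq he he1
  exact ⟨w, hW (mem_inf.1 hw).1, e, hE he, mem_cent1_iff.1 (mem_inf.1 hw).2, e1 ▸ hc, e2 ▸ hd,
    by rw [e1, e2]; exact hdc.symm⟩

theorem hall_two (hY : HallIn {b}ᶜ Y X)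
    (h3 : ∀ p q : ℕ, ∃ s : ℕ, s.Prime ∧ s ∣ Nat.card X ∧ s ≠ p ∧ s ≠ q) (p : ℕ) :
    ∃ s : ℕ, s.Prime ∧ s ∣ Nat.card Y ∧ s ≠ p := by
  obtain ⟨s, h1, h2, h3, h4⟩ := h3 b p
  exact ⟨s, h1, (hY.dvd_card_iff h1 h3).2 h2, h4⟩

theorem Act.sub (k : Act a V X) (hU : U ≤ X) (hb : b.Prime) (hab : Abelem b U) (h1 : U ≠ ⊥)
    (hn : X ≤ N[U]) (hY : HallIn {b}ᶜ Y X) : Act b U Y :=
  ⟨hb, hab, h1, hY.le.trans hn, hY.isPi, k.nt.mono ((sup_le hU hY.le).trans le_sup_right)⟩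

theorem caseA (k : Act a V X) (hs : Group.IsSolvable X) (hf : X ⊓ C[V] = ⊥) (rk : RK X)
    (h3 : ∀ p q : ℕ, ∃ s : ℕ, s.Prime ∧ s ∣ Nat.card X ∧ s ≠ p ∧ s ≠ q) (hU : U ≤ X)
    (hn : X ≤ N[U]) (hb : b.Prime) (hab : Abelem b U) (hnc : ¬ IsCyclic U) : False := by
  have := Fact.mk hb
  have := Fact.mk k.pa
  obtain ⟨Y, hY⟩ := Hall_exists {b}ᶜ hs
  have hsY := sol_of_le hs hY.le
  have k' := k.sub hU hb hab (ne_bot_of_not_cyclic hnc) hn hY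
  have h2 := hall_two hY h3
  have rkY := rk.hall hs hY
  have hY0 : NormalIn (Y ⊓ C[U]) Y := NormalIn.inf_cent k'.norm
  have hsr : Semiregular V (Y ⊓ C[U]) := fun z hz h1 => by
    obtain ⟨q, hq, hq'⟩ := Nat.exists_prime_and_dvd (orderOf_eq_one_iff.not.2 h1)
    exact k.f1 hU hab hnc (hY.le (mem_inf.1 hz).1) (mem_inf.1 hz).2 hq hq'
      (k'.pi.orderOf (mem_inf.1 hz).1 q hq hq')
  have h0 : Y ⊓ C[U] ≠ ⊥ := by
    obtain ⟨x, hx, y, hy, hc, hp, hq, hpq⟩ := cmp hsY rkY h2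
    rcases k.lemH hf k' hU hY.le hx hy hc hp hq hpq with h | h
    · exact ne_bot_of_mem (mem_inf.2 ⟨hx, h⟩) (orderOf_eq_one_iff.not.1 hp.ne_one)
    · exact ne_bot_of_mem (mem_inf.2 ⟨hy, h⟩) (orderOf_eq_one_iff.not.1 hq.ne_one)
  obtain ⟨W, hW, hW1, hWn, c, hc, habW⟩ := exists_min hsY hY0 h0
  have := Fact.mk hc
  have hWY := hW.trans hY0.1
  have hWc := habW.card_of_cyclic (k.cyc (hWY.trans hY.le) habW.abel (hsr.mono le_rfl hW)) hW1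
  obtain ⟨w, hw, hw1⟩ := exists_ne_one_of_ne_bot hW1
  have hf1 : ∀ z ∈ Y ⊓ C[W], ∀ q : ℕ, q.Prime → q ≠ c → q ∣ orderOf z → U ⊓ C₁[z] = ⊥ :=
    fun z hz q hq hqc hd => by
      have := k'.f0 (hWY hw) (mem_inf.1 hz).1 (commute_of_mem_cent (mem_inf.1 hz).2 hw) hc hq
        (dvd_ord habW.isPGroup hw hw1) hd hqc.symm
      rwa [inf_eq_left.2 (le_cent1_iff.2 (mem_inf.1 (hW hw)).2)] at this
  have hP0 : IsPGroup c ↥(Y ⊓ C[U]) := IsPi.isPGroup (fun q hq hq' => by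
    by_contra hqc
    obtain ⟨z, hz, hzo⟩ := exists_orderOf_eq_prime hq hq'
    have hz1 : z ≠ 1 := orderOf_eq_one_iff.not.1 (hzo ▸ hq.ne_one)
    have h4 : W ⊓ C₁[z] = ⊥ := by_contra fun h' => k'.ne (by
      have := hf1 z (mem_inf.2 ⟨(mem_inf.1 hz).1, mem_cent_of_card (hWc ▸ hc) h'⟩) q hq hqc
        (hzo ▸ dvd_rfl)
      rwa [inf_eq_left.2 (le_cent1_iff.2 (mem_inf.1 hz).2)] at this)
    have h5 := k.t1' (hWY.trans hY.le) (hY.le (mem_inf.1 hz).1) (hzo ▸ hq) h4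
      (hWn (mem_inf.1 hz).1) (hsr z hz hz1)
    exact hW1 (by rw [← le_bot_iff, ← hf]; exact le_inf (hWY.trans hY.le) h5)) hc
  obtain ⟨d, hd, hdd, hdc⟩ := h2 c
  have := Fact.mk hd
  obtain ⟨E, hE, habE, hncE⟩ := rkY d hd hdd
  obtain ⟨f, hfE, hfW⟩ : ∃ f ∈ E, f ∉ C[W] := by
    by_contra! h
    exact hncE (k'.cyc hE habE.abel fun z hz h1 =>
      hf1 z (mem_inf.2 ⟨hE hz, h z hz⟩) d hd hdc (dvd_ord habE.isPGroup hz h1))
  obtain ⟨hlt, hco⟩ := lt_of_not_cent hWc hc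
    (habE.orderOf_eq hfE fun e => hfW (e ▸ one_mem _)) hd (hWn (hE hfE)) hfW
  obtain ⟨e, he, he1, h6⟩ := exists_cent1_ne_bot_of_not_cyclic habE.abel hncE (hE.trans hWn) hW1
  have heW := mem_cent_of_card (hWc ▸ hc) h6
  have heo := habE.orderOf_eq he he1
  obtain ⟨E', hE', habE', hncE'⟩ := rkY c hc (hWc ▸ card_dvd_of_le hWY)
  have hcb : c ≠ b := k'.pi.mem hc (hWc ▸ card_dvd_of_le hWY)
  have hdb : d ≠ b := k'.pi.mem hd hdd
  obtain ⟨F, hF, habF, hncF, heF⟩ := kl (X := Y ⊓ C[W]) (sol_of_le hsY inf_le_left) hab.sol k'.ne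
    (inf_le_left.trans k'.norm) hco hd hlt (IsPGroup.isPi hab.isPGroup (by
      rintro (h | h)
      exacts [hcb h.symm, hdb h.symm])) (fun z hz h => hf1 z hz d hd hdc h)
    (mem_inf.2 ⟨hE he, heW⟩) heo (le_inf hE' (le_cent_of_card hWc habE'.isPGroup (hE'.trans hWn)))
    habE' hncE' fun N hN _ hNU => cent_anti (le_inf (hN.trans inf_le_left) hNU)
      (cent_cyc (k.cyc' (hY0.1.trans hY.le) hP0 hco hsr) hP0 hW hWc (hY0.2 (hE he))
        (by rw [heo]; exact fun h => hdc ((Nat.prime_dvd_prime_iff_eq hc hd).1 h).symm) heW)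
  have h7 := k.t1' hU (hY.le (hE he)) (heo ▸ hd)
    (hf1 e (mem_inf.2 ⟨hE he, heW⟩) d hd hdc (heo ▸ dvd_rfl)) (hn (hY.le (hE he)))
    (k.f1 ((hF.trans inf_le_left).trans hY.le) habF hncF (hY.le (hE he)) heF hd (heo ▸ dvd_rfl) hdc)
  exact k'.ne (by rw [← le_bot_iff, ← hf]; exact le_inf hU h7)

end Cfsg.Agent.H6.Sq
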