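import Cfsg.Agent.H6.Sq.Sol2

/-! The criterion of nonsolvability: four primes, pairwise adjacent, no three dividing the order
of one element. -/

set_option autoImplicit false
set_option linter.unusedSectionVars false

namespace Cfsg.Agent.H6.Sq

open Subgroup Cfsg.Agent.H7
open MulAut (conj)
open scoped Pointwise

universe u

variable {G : Type u} [Group G] [Finite G] {κ : ℕ → ℕ} {a b c d p q r s : ℕ} {π : Set ℕ}
  {A B C D E H K M N P Q R T U V W X Y : Subgroup G} {e g t u v w x y z : G}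

theorem core_third (nt : NT id X) (hb : b.Prime) (hc : c.Prime) (hp : p.Prime)
    (h1 : O[{b}] X ≠ ⊥) (h2 : O[{c}] X ≠ ⊥) (hbc : b ≠ c) (hpb : p ≠ b) (hpc : p ≠ c) :
    O[{p}] X = ⊥ := by
  have := Fact.mk hb
  have := Fact.mk hc
  have := Fact.mk hp
  by_contra h3
  obtain ⟨x, hx, hx1⟩ := exists_ne_one_of_ne_bot h1
  obtain ⟨y, hy, hy1⟩ := exists_ne_one_of_ne_bot h2
  obtain ⟨z, hz, hz1⟩ := exists_ne_one_of_ne_bot h3
  exact nt.three (core_le _ _ hx) (core_le _ _ hy) (core_le _ _ hz)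
    (commute_of_mem_cent (core_le_cent_core_of_ne hbc.symm X hy) hx)
    (commute_of_mem_cent (core_le_cent_core_of_ne hpb X hz) hx)
    (commute_of_mem_cent (core_le_cent_core_of_ne hpc X hz) hy) hb hc hp
    (dvd_ord (isPGroup_core X) hx hx1) (dvd_ord (isPGroup_core X) hy hy1)
    (dvd_ord (isPGroup_core X) hz hz1) hbc hpb.symm hpc.symm

theorem l2' (nt : NT id X) (hs : Group.IsSolvable X) (hb : b.Prime) (hc : c.Prime)
    (h1 : O[{b}] X ≠ ⊥) (h2 : O[{c}] X ≠ ⊥) (hbc : b ≠ c) (hcy : IsCyclic (O[{b}] X))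
    (hN : N ≤ X) (hP : IsPGroup b N) (h : N ≤ C[O[{c}] X]) : N ≤ O[{b}] X :=
  have := Fact.mk hb
  l2 hs hcy hN hP fun p hp hpb => by
    by_cases hpc : p = c
    · exact hpc ▸ h
    · rw [core_third nt hb hc hp h1 h2 hbc hpb hpc]; exact le_cent_bot

theorem caseB1 (k : Act a V X) (hs : Group.IsSolvable X) (hf : X ⊓ C[V] = ⊥) (k' : Act b U Y)
    (hU : U ≤ X) (hY : Y ≤ X) (hUc : Nat.card U = b) (hm : V ⊓ C[U] = ⊥) (ho : O[{b}ᶜ] X = ⊥)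
    (hx : x ∈ Y) (hy : y ∈ Y) (hc : Commute x y) (hp : (orderOf x).Prime) (hq : (orderOf y).Prime)
    (hpq : orderOf x ≠ orderOf y) (h : x ∈ C[U]) : False := by
  have := Fact.mk k'.pa
  have := Fact.mk k.pa
  have h0 := k'.f0 hx hy hc hp hq dvd_rfl dvd_rfl hpq
  rw [inf_eq_left.2 (le_cent1_iff.2 h)] at h0
  have h1 : y ∉ C[U] := fun e => k'.ne (by rwa [inf_eq_left.2 (le_cent1_iff.2 e)] at h0)
  obtain ⟨-, hbo⟩ := lt_of_not_cent hUc k'.pa rfl hq (k'.norm hy) h1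
  have h2 := k.t1 hU (semi1 hq h0) (zpowers_le.2 (k'.norm hy)) (W := V ⊓ C₁[x]) inf_le_left
    (le_norm_inf (hU.trans k.norm) (le_norm_cent1 (le_cent1_iff.2 h)))
    (le_norm_inf (zpowers_le.2 (k.norm (hY hy)))
      (le_norm_cent1 (zpowers_le.2 (mem_cent1_iff.2 hc.symm.eq))))
    (by rw [cent_zpowers]; exact k.f0 (hY hx) (hY hy) hc hp hq dvd_rfl dvd_rfl hpq)
  have h3 : V ⊓ C₁[x] = ⊥ := by
    rw [← le_bot_iff, ← hm]; exact le_inf inf_le_left (le_cent_symm h2)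
  have hxb : orderOf x ≠ b := k'.pi.orderOf hx _ hp dvd_rfl
  have hxn := (core_normalIn {b} X).2 (hY hx)
  have h4 := comm_le_of_fpf (IsPGroup.odd_card (isPGroup_core X) hbo) hp rfl hxn
    (fun e => hxb (IsPGroup.prime_eq (isPGroup_core X) hp e)) k.ab.sol
    ((core_le _ _).trans k.norm) (k.norm (hY hx))
    (IsPGroup.coprime_of_isPi k.ab.isPGroup (k.pi.of_le (core_le _ _)))
    (fun e => k.pi.orderOf (hY hx) _ hp dvd_rfl (IsPGroup.prime_eq k.ab.isPGroup hp e)) h3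
  have h5 : ⁅O[{b}] X, zpowers x⁆ = ⊥ := by
    rw [← le_bot_iff, ← hf]
    exact le_inf ((comm_le_left (zpowers_le.2 hxn)).trans (core_le _ _)) h4
  have h6 := cent_pcore_le hs ho (mem_inf.2 ⟨hY hx, zpowers_le.1 (comm_eq_bot_iff'.1 h5)⟩)
  exact hxb (IsPGroup.prime_eq (isPGroup_core X) hp (orderOf_dvd_card_of_mem h6))

theorem caseB2 (k : Act a V X) (hs : Group.IsSolvable X) (hf : X ⊓ C[V] = ⊥) (rk : RK X)
    (hU : NormalIn U X) (hW : NormalIn W X) (hUc : Nat.card U = b) (hWc : Nat.card W = c)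
    (hb : b.Prime) (hc : c.Prime) (hd : d.Prime) (hbc : b ≠ c) (hdc : d ≠ c) (hlt : d < b)
    (hbo : Odd b) (he : e ∈ X) (heo : orderOf e = d) (heU : e ∈ C[U]) (heW : e ∉ C[W])
    (hcy : IsCyclic (O[{b}] X)) : False := by
  have := Fact.mk hb
  have := Fact.mk hc
  have nt := k.nt.mono (le_sup_right (a := V))
  have hUB := hU.le_pcore (isPGroup_of_card_prime hUc)
  have hWC := hW.le_pcore (isPGroup_of_card_prime hWc)
  have hU1 := ne_bot_of_card_prime (hUc ▸ hb)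
  have hW1 := ne_bot_of_card_prime (hWc ▸ hc)
  have n1 : O[{b}] X ≠ ⊥ := fun e => hU1 (le_bot_iff.1 (e ▸ hUB))
  have n2 : O[{c}] X ≠ ⊥ := fun e => hW1 (le_bot_iff.1 (e ▸ hWC))
  obtain ⟨u, hu, hu1⟩ := exists_ne_one_of_ne_bot hU1
  obtain ⟨E', hE', habE', hncE'⟩ := rk b hb (hUc ▸ card_dvd_of_le hU.1)
  obtain ⟨F, hF, habF, hncF, heF⟩ := kl (X := X ⊓ C[U]) (M := O[{c}] X) (sol_of_le hs inf_le_left)
    (sol_of_pgroup (isPGroup_core X)) n2 (inf_le_left.trans (core_normalIn _ X).2) hbo hd hlt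
    (IsPGroup.isPi (isPGroup_core X) (by
      rintro (h | h)
      exacts [hbc h.symm, hdc h.symm]))
    (fun z hz h => inf_eq_bot_of_forall fun m hm hm' => by_contra fun e =>
      nt.three (hU.1 hu) (core_le _ _ hm) (mem_inf.1 hz).1
        (commute_of_mem_cent (core_le_cent_core_of_ne hbc.symm X hm) (hUB hu))
        (commute_of_mem_cent (mem_inf.1 hz).2 hu) (mem_cent1_iff.1 hm') hb hc hd
        (dvd_ord (isPGroup_core X) (hUB hu) hu1) (dvd_ord (isPGroup_core X) hm e) h hbc hlt.ne'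
        hdc.symm)
    (mem_inf.2 ⟨he, heU⟩) heo (le_inf hE' (le_cent_of_card hUc habE'.isPGroup (hE'.trans hU.2)))
    habE' hncE' fun N hN hP hNC => cent_anti
      (l2' nt hs hb hc n1 n2 hbc hcy (hN.trans inf_le_left) hP hNC)
      (cent_cyc hcy (isPGroup_core X) hUB hUc ((core_normalIn _ X).2 he)
        (by rw [heo]; exact fun h => hlt.ne' ((Nat.prime_dvd_prime_iff_eq hb hd).1 h)) heU)
  have h7 := k.t1' hW.1 he (heo ▸ hd)
    (by_contra fun h' => heW (mem_cent_of_card (hWc ▸ hc) h')) (hW.2 he)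
    (k.f1 (hF.trans inf_le_left) habF hncF he heF hd (heo ▸ dvd_rfl) hlt.ne)
  exact hW1 (by rw [← le_bot_iff, ← hf]; exact le_inf hW.1 h7)

theorem caseB0 (nt : NT id X) (hU : NormalIn U X) (hW : NormalIn W X) (hUc : Nat.card U = b)
    (hWc : Nat.card W = c) (hb : b.Prime) (hc : c.Prime) (hd : d.Prime) (hbc : b ≠ c)
    (hdb : d ≠ b) (hdc : d ≠ c) (hE : E ≤ X) (hab : Abelem d E) (hnc : ¬ IsCyclic E) :
    ∃ e ∈ X, orderOf e = d ∧ e ∈ C[U] ∧ e ∉ C[W] := by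
  have := Fact.mk hb
  have := Fact.mk hc
  have := Fact.mk hd
  have hU1 := ne_bot_of_card_prime (hUc ▸ hb)
  obtain ⟨e, he, he1, h6⟩ := exists_cent1_ne_bot_of_not_cyclic hab.abel hnc (hE.trans hU.2) hU1
  have heU := mem_cent_of_card (hUc ▸ hb) h6
  refine ⟨e, hE he, hab.orderOf_eq he he1, heU, fun heW => ?_⟩
  obtain ⟨u, hu, hu1⟩ := exists_ne_one_of_ne_bot hU1
  obtain ⟨w, hw, hw1⟩ := exists_ne_one_of_ne_bot (ne_bot_of_card_prime (hWc ▸ hc))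
  exact nt.three (hU.1 hu) (hW.1 hw) (hE he) (commute_of_mem_cent
    (core_le_cent_core_of_ne hbc.symm X (hW.le_pcore (isPGroup_of_card_prime hWc) hw))
    (hU.le_pcore (isPGroup_of_card_prime hUc) hu)) (commute_of_mem_cent heU hu)
    (commute_of_mem_cent heW hw) hb hc hd (dvd_ord (isPGroup_of_card_prime hUc) hu hu1)
    (dvd_ord (isPGroup_of_card_prime hWc) hw hw1) (dvd_ord hab.isPGroup he he1) hbc hdb.symm
    hdc.symm

theorem exists_noncyc [Fact p.Prime] (hP : IsPGroup p P) (ho : Odd p) (h : ¬ IsCyclic P) :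
    ∃ E ≤ P, Abelem p E ∧ ¬ IsCyclic E := by
  obtain ⟨E, hE, -⟩ := exists_normal_pnElem_two hP ho h
  exact ⟨E, hE.le, hE.abelem, hE.abelem.not_cyclic (hE.card ▸ dvd_rfl)⟩

theorem Act.cyc_of_cent (k : Act a V X) [Fact p.Prime] [hq : Fact q.Prime] (hE : E ≤ X)
    (hab : Abelem p E) (hn : ¬ IsCyclic E) (hQ : Q ≤ X) (hP : IsPGroup q Q) (ho : Odd q)
    (hc : Q ≤ C[E]) (hpq : q ≠ p) : IsCyclic Q :=
  k.cyc' hQ hP ho fun _ hz h1 => k.f1 hE hab hn (hQ hz) (hc hz) hq.out (dvd_ord hP hz h1) hpq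

theorem faith (k : Act a V X) (hs : Group.IsSolvable X) (hf : X ⊓ C[V] = ⊥)
    (hm : MinNormal V X) (rk : RK X)
    (h3 : ∀ p q : ℕ, ∃ s : ℕ, s.Prime ∧ s ∣ Nat.card X ∧ s ≠ p ∧ s ≠ q) : False := by
  have nt := k.nt.mono (le_sup_right (a := V))
  have hc : ∀ {U : Subgroup G} {b : ℕ}, U ≤ X → X ≤ N[U] → U ≠ ⊥ → b.Prime → Abelem b U →
      Nat.card U = b := fun hU hn h1 hb hab =>
    have := Fact.mk hb
    hab.card_of_cyclic (by_contra fun h => caseA k hs hf rk h3 hU hn hb hab h) h1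
  obtain ⟨s, hs1, hs2, -⟩ := h3 0 0
  obtain ⟨U, hU, hU1, hn, b, hb, hab⟩ := exists_min hs (NormalIn.refl X) (ne_bot_of_dvd hs1 hs2)
  have hUc := hc hU hn hU1 hb hab
  by_cases ho : O[{b}ᶜ] X = ⊥
  · obtain ⟨Y, hY⟩ := Hall_exists {b}ᶜ hs
    have k' := k.sub hU hb hab hU1 hn hY
    have hm' := hm.inf_cent_eq_bot hn fun h => hU1 (by
      rw [← le_bot_iff, ← hf]; exact le_inf hU h)
    obtain ⟨x, hx, y, hy, hc, hp, hq, hpq⟩ :=
      cmp (sol_of_le hs hY.le) (rk.hall hs hY) (hall_two hY h3)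
    rcases k.lemH hf k' hU hY.le hx hy hc hp hq hpq with h | h
    · exact caseB1 k hs hf k' hU hY.le hUc hm' ho hx hy hc hp hq hpq h
    · exact caseB1 k hs hf k' hU hY.le hUc hm' ho hy hx hc.symm hq hp hpq.symm h
  obtain ⟨W, hW, hW1, hWn, c, hcp, habW⟩ := exists_min hs (core_normalIn _ X) ho
  have := Fact.mk hb
  have := Fact.mk hcp
  have hWX := hW.trans (core_le _ _)
  have hWc := hc hWX hWn hW1 hcp habW
  have hcb : c ≠ b := (isPi_core _ X).mem hcp (hWc ▸ card_dvd_of_le hW)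
  obtain ⟨d, hd, hdd, hdb, hdc⟩ := h3 b c
  obtain ⟨E, hE, habE, hncE⟩ := rk d hd hdd
  obtain ⟨e, he, heo, heU, heW⟩ :=
    caseB0 nt ⟨hU, hn⟩ ⟨hWX, hWn⟩ hUc hWc hb hcp hd hcb.symm hdb hdc hE habE hncE
  obtain ⟨f, hf', hfo, hfW, hfU⟩ :=
    caseB0 nt ⟨hWX, hWn⟩ ⟨hU, hn⟩ hWc hUc hcp hb hd hcb hdc hdb hE habE hncE
  obtain ⟨l1, o1⟩ := lt_of_not_cent hWc hcp heo hd (hWn he) heW
  obtain ⟨l2, o2⟩ := lt_of_not_cent hUc hb hfo hd (hn hf') hfU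
  by_cases hcy : IsCyclic (O[{b}] X)
  · exact caseB2 k hs hf rk ⟨hU, hn⟩ ⟨hWX, hWn⟩ hUc hWc hb hcp hd hcb.symm hdc l2 o2 he heo heU
      heW hcy
  obtain ⟨F, hF, habF, hncF⟩ := exists_noncyc (isPGroup_core X) o2 hcy
  exact caseB2 k hs hf rk ⟨hWX, hWn⟩ ⟨hU, hn⟩ hWc hUc hcp hb hd hcb hdb l1 o1 hf' hfo hfW hfU
    (k.cyc_of_cent (hF.trans (core_le _ _)) habF hncF (core_le _ _) (isPGroup_core X) o1
      ((core_le_cent_core_of_ne hcb X).trans (cent_anti hF)) hcb)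

/-- `Y` acts on the direct product of `V` and `U` -/
structure Two (a b : ℕ) (V U Y : Subgroup G) : Prop where
  k : Act a V Y
  k' : Act b U Y
  g0 : ∀ z ∈ Y, z ≠ 1 → V ⊓ C₁[z] = ⊥ ∨ U ⊓ C₁[z] = ⊥

namespace Two

theorem symm (j : Two a b V U Y) : Two b a U V Y :=
  ⟨j.k', j.k, fun z hz h1 => (j.g0 z hz h1).symm⟩

theorem n1 (j : Two a b V U Y) [hc : Fact c.Prime] (hW : NormalIn W Y) (hab : Abelem c W)
    (hx : x ∈ Y) (hy : y ∈ Y) (hxy : Commute x y) (hd : d.Prime) (hxo : orderOf x = d)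
    (hyo : orderOf y = d) (hdc : d ≠ c) (h1 : V ⊓ C₁[x] ≠ ⊥) (h2 : U ⊓ C₁[y] ≠ ⊥) :
    x ∈ C[W] := by
  have ti : ∀ {x : G}, x ∈ Y → orderOf x = d → ⁅W, zpowers x⁆ ⊓ C₁[x] = ⊥ := fun hx hxo => by
    rw [← cent_zpowers]
    exact coprime_abel_cent_TI (zpowers_le.2 (hW.2 hx)) (IsPGroup.coprime_of_isPi hab.isPGroup
      (IsPi.of_card_prime hd (by rw [Nat.card_zpowers, hxo]) hdc)) hab.abel
  have x1 : x ≠ 1 := orderOf_eq_one_iff.not.1 (hxo ▸ hd.ne_one)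
  have y1 : y ≠ 1 := orderOf_eq_one_iff.not.1 (hyo ▸ hd.ne_one)
  have l1 : ⁅W, zpowers x⁆ ≤ W := comm_le_left (zpowers_le.2 (hW.2 hx))
  have l2 : ⁅W, zpowers y⁆ ≤ W := comm_le_left (zpowers_le.2 (hW.2 hy))
  have c1 := j.k'.t1' (l1.trans hW.1) hx (hxo ▸ hd) (ti hx hxo)
    (zpowers_le.1 (right_le_norm_comm _ _)) ((j.g0 x hx x1).resolve_left h1)
  have c2 := j.k.t1' (l2.trans hW.1) hy (hyo ▸ hd) (ti hy hyo)
    (zpowers_le.1 (right_le_norm_comm _ _)) ((j.g0 y hy y1).resolve_right h2)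
  have h3 : ⁅⁅W, zpowers x⁆, zpowers y⁆ = ⊥ := by
    rw [eq_bot_iff_forall]
    intro w hw
    by_contra e
    have m1 := comm_le_left (le_norm_comm (zpowers_le.2 (hW.2 hy))
      (le_norm_zpowers (zpowers_le.2 (mem_cent1_iff.2 hxy.symm.eq)))) hw
    have m2 := comm_mono_left l1 hw
    rcases j.g0 w (hW.1 (l1 m1)) e with h | h
    · exact j.k.ne (by rwa [inf_eq_left.2 (le_cent1_iff.2 (c2 m2))] at h)
    · exact j.k'.ne (by rwa [inf_eq_left.2 (le_cent1_iff.2 (c1 m1))] at h)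
  rw [comm_eq_bot_iff, cent_zpowers] at h3
  refine zpowers_le.1 (comm_eq_bot_iff'.1 (by_contra fun e => h2 ?_))
  obtain ⟨w, hw, hw1⟩ := exists_ne_one_of_ne_bot e
  have := j.k'.f0 (hW.1 (l1 hw)) hy (mem_cent1_iff.1 (h3 hw)) hc.out hd
    (dvd_ord hab.isPGroup (l1 hw) hw1) (hyo ▸ dvd_rfl) hdc.symm
  rwa [inf_eq_left.2 (le_cent1_iff.2 (c1 hw))] at this

theorem n2 (j : Two a b V U Y) [hd : Fact d.Prime] (hE : E ≤ Y) (hab : Abelem d E)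
    (hnc : ¬ IsCyclic E) (h : ∀ x ∈ E, ∀ y ∈ E, x ≠ 1 → y ≠ 1 → V ⊓ C₁[x] ≠ ⊥ → U ⊓ C₁[y] ≠ ⊥ →
      x ∈ A ∧ y ∈ A) : ¬ IsCyclic ↥(E ⊓ A) := by
  obtain ⟨x, hx, hx1, h1⟩ := exists_cent1_ne_bot_of_not_cyclic hab.abel hnc (hE.trans j.k.norm)
    j.k.ne
  obtain ⟨y, hy, hy1, h2⟩ := exists_cent1_ne_bot_of_not_cyclic hab.abel hnc (hE.trans j.k'.norm)
    j.k'.ne
  obtain ⟨m1, m2⟩ := h x hx y hy hx1 hy1 h1 h2
  intro hc
  have h3 := hab.inf_left.card_of_cyclic hc (ne_bot_of_mem (mem_inf.2 ⟨hx, m1⟩) hx1)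
  rw [cent1_eq_cent_of_card_prime (h3 ▸ hd.out) (mem_inf.2 ⟨hy, m2⟩) hy1,
    ← cent1_eq_cent_of_card_prime (h3 ▸ hd.out) (mem_inf.2 ⟨hx, m1⟩) hx1] at h2
  exact (j.g0 x (hE hx) hx1).elim h1 h2

theorem semi (j : Two a b V U Y) (rk : RK Y)
    (h2 : ∀ p : ℕ, ∃ s : ℕ, s.Prime ∧ s ∣ Nat.card Y ∧ s ≠ p) (hc : c.Prime) (hW : NormalIn W Y)
    (hab : Abelem c W) : Semiregular V W := by
  have := Fact.mk hc
  obtain ⟨d, hd, hdd, hdc⟩ := h2 c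
  have := Fact.mk hd
  obtain ⟨E, hE, habE, hnc⟩ := rk d hd hdd
  have h := j.n2 (A := C[W]) hE habE hnc fun x hx y hy hx1 hy1 h1 h2 =>
    ⟨j.n1 hW hab (hE hx) (hE hy) (commute_of_abel habE.abel hx hy) hd (habE.orderOf_eq hx hx1)
      (habE.orderOf_eq hy hy1) hdc h1 h2,
    j.symm.n1 hW hab (hE hy) (hE hx) (commute_of_abel habE.abel hy hx) hd (habE.orderOf_eq hy hy1)
      (habE.orderOf_eq hx hx1) hdc h2 h1⟩
  exact fun w hw h1 => j.k.f1 (inf_le_left.trans hE) habE.inf_left h (hW.1 hw)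
    (le_cent_symm inf_le_right hw) hc (dvd_ord hab.isPGroup hw h1) hdc.symm

theorem faithful (j : Two a b V U Y) (hs : Group.IsSolvable Y) (rk : RK Y)
    (h2 : ∀ p : ℕ, ∃ s : ℕ, s.Prime ∧ s ∣ Nat.card Y ∧ s ≠ p) : Y ⊓ C[V] = ⊥ := by
  by_contra h
  obtain ⟨W, hW, hW1, hn, c, hc, hab⟩ := exists_min hs (NormalIn.inf_cent j.k.norm) h
  obtain ⟨w, hw, hw1⟩ := exists_ne_one_of_ne_bot hW1
  have := j.semi rk h2 hc ⟨hW.trans inf_le_left, hn⟩ hab w hw hw1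
  exact j.k.ne (by rwa [inf_eq_left.2 (le_cent1_iff.2 (mem_inf.1 (hW hw)).2)] at this)

end Two

theorem Act.n3 (k : Act a V Y) (hf : Y ⊓ C[V] = ⊥) (ht : t ∈ Y) (hw : w ∈ Y) (t2 : t * t = 1)
    (w2 : w * w = 1) (h1 : V ⊓ C₁[t] = ⊥) (h2 : V ⊓ C₁[w] = ⊥) : t ∈ zpowers w := by
  have h3 : t * w = 1 := eq_one_of_mem_inf hf (mul_mem ht hw) (mem_cent_of_conj_eq fun v hv => by
    have e1 := S3.inv_of_fpf w2 (k.norm hw) h2 hv
    have e2 := S3.inv_of_fpf t2 (k.norm ht) h1 (inv_mem hv)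
    calc _ = t * (w * v * w⁻¹) * t⁻¹ := by group
      _ = _ := by rw [e1, e2, inv_inv])
  rw [eq_inv_of_mul_eq_one_left h3]
  exact inv_mem (mem_zpowers w)

theorem Two.odd (j : Two a b V U Y) (hs : Group.IsSolvable Y) (rk : RK Y)
    (h2 : ∀ p : ℕ, ∃ s : ℕ, s.Prime ∧ s ∣ Nat.card Y ∧ s ≠ p) (hc : c.Prime)
    (h : O[{c}] Y ≠ ⊥) : Odd c := by
  refine hc.odd_of_ne_two fun e => ?_
  subst e
  obtain ⟨W, hW, hW1, hn, c, hc, hab⟩ := exists_min hs (core_normalIn _ Y) h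
  have := Fact.mk hc
  obtain rfl : c = 2 := (isPi_core {2} Y).mem hc
    ((IsPGroup.dvd_card hab.isPGroup hW1).trans (card_dvd_of_le hW))
  have hWY : NormalIn W Y := ⟨hW.trans (core_le _ _), hn⟩
  obtain ⟨w, hw, hw1⟩ := exists_ne_one_of_ne_bot hW1
  obtain ⟨E, hE, habE, hnc⟩ := rk 2 hc
    ((IsPGroup.dvd_card hab.isPGroup hW1).trans (card_dvd_of_le hWY.1))
  refine hnc (cyclic_of_le (cyclic_zpowers w) fun t ht => ?_)
  by_cases h1 : t = 1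
  · exact h1 ▸ one_mem _
  rcases j.g0 t (hE ht) h1 with h | h
  · exact j.k.n3 (j.faithful hs rk h2) (hE ht) (hWY.1 hw) (S3.Abelem.mul_self habE ht)
      (S3.Abelem.mul_self hab hw) h (j.semi rk h2 hc hWY hab w hw hw1)
  · exact j.k'.n3 (j.symm.faithful hs rk h2) (hE ht) (hWY.1 hw) (S3.Abelem.mul_self habE ht)
      (S3.Abelem.mul_self hab hw) h (j.symm.semi rk h2 hc hWY hab w hw hw1)

theorem Act.n4 (k : Act a V Y) (hf : Y ⊓ C[V] = ⊥) [Fact c.Prime] (ho : Odd c) (hd : d.Prime)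
    (hdc : d ≠ c) (hx : x ∈ Y) (hxo : orderOf x = d) (h : V ⊓ C₁[x] = ⊥) : x ∈ C[O[{c}] Y] := by
  have := Fact.mk k.pa
  have hxn := (core_normalIn {c} Y).2 hx
  have h4 := comm_le_of_fpf (IsPGroup.odd_card (isPGroup_core Y) ho) hd hxo hxn
    (fun e => hdc (IsPGroup.prime_eq (isPGroup_core Y) hd e)) k.ab.sol
    ((core_le _ _).trans k.norm) (k.norm hx)
    (IsPGroup.coprime_of_isPi k.ab.isPGroup (k.pi.of_le (core_le _ _)))
    (fun e => k.pi.orderOf hx _ hd (hxo ▸ dvd_rfl) (IsPGroup.prime_eq k.ab.isPGroup hd e)) h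
  refine zpowers_le.1 (comm_eq_bot_iff'.1 ?_)
  rw [← le_bot_iff, ← hf]
  exact le_inf ((comm_le_left (zpowers_le.2 hxn)).trans (core_le _ _)) h4

theorem Two.exists_cent (j : Two a b V U Y) (hs : Group.IsSolvable Y) (rk : RK Y)
    (h2 : ∀ p : ℕ, ∃ s : ℕ, s.Prime ∧ s ∣ Nat.card Y ∧ s ≠ p) (hc : c.Prime)
    (h : O[{c}] Y ≠ ⊥) (hd : d.Prime) (hdd : d ∣ Nat.card Y) (hdc : d ≠ c) :
    ∃ E ≤ Y, Abelem d E ∧ ¬ IsCyclic E ∧ E ≤ C[O[{c}] Y] := by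
  have := Fact.mk hc
  have := Fact.mk hd
  have ho := j.odd hs rk h2 hc h
  obtain ⟨E, hE, habE, hnc⟩ := rk d hd hdd
  exact ⟨_, inf_le_left.trans hE, habE.inf_left, j.n2 hE habE hnc fun x hx y hy hx1 hy1 h1 h2' =>
    ⟨j.k'.n4 (j.symm.faithful hs rk h2) ho hd hdc (hE hx) (habE.orderOf_eq hx hx1)
      ((j.g0 x (hE hx) hx1).resolve_left h1),
    j.k.n4 (j.faithful hs rk h2) ho hd hdc (hE hy) (habE.orderOf_eq hy hy1)
      ((j.g0 y (hE hy) hy1).resolve_right h2')⟩, inf_le_right⟩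

theorem Two.false (j : Two a b V U Y) (hs : Group.IsSolvable Y) (rk : RK Y)
    (h2 : ∀ p : ℕ, ∃ s : ℕ, s.Prime ∧ s ∣ Nat.card Y ∧ s ≠ p) : False := by
  have nt := j.k.nt.mono (le_sup_right (a := V))
  obtain ⟨s, hs1, hs2, -⟩ := h2 0
  obtain ⟨c, hc, h1⟩ := exists_pcore_ne_bot hs (ne_bot_of_dvd hs1 hs2)
  have := Fact.mk hc
  by_cases ho : O[{c}ᶜ] Y = ⊥
  · obtain ⟨d, hd, hdd, hdc⟩ := h2 c
    have := Fact.mk hd
    obtain ⟨E, hE, hab, hnc, h⟩ := j.exists_cent hs rk h2 hc h1 hd hdd hdc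
    have h3 := (le_inf hE h).trans (cent_pcore_le hs ho)
    rw [IsPGroup.eq_bot_of_isPi hab.isPGroup
      ((IsPGroup.isPi_compl (isPGroup_core Y) hdc.symm).of_le h3)] at hnc
    exact hnc cyclic_bot
  obtain ⟨W, hW, hW1, hn, r, hr, hab⟩ := exists_min hs (core_normalIn _ Y) ho
  have := Fact.mk hr
  have hrd := IsPGroup.dvd_card hab.isPGroup hW1
  have hrc : r ≠ c := (isPi_core _ Y).mem hr (hrd.trans (card_dvd_of_le hW))
  have h3 : O[{r}] Y ≠ ⊥ := fun e => hW1 (le_bot_iff.1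
    (e ▸ NormalIn.le_pcore ⟨hW.trans (core_le _ _), hn⟩ hab.isPGroup))
  obtain ⟨E, hE, habE, hnc, h⟩ := j.exists_cent hs rk h2 hc h1 hr
    (hrd.trans (card_dvd_of_le (hW.trans (core_le _ _)))) hrc
  obtain ⟨F, hF, habF, hncF, h'⟩ := j.exists_cent hs rk h2 hr h3 hc
    ((IsPGroup.dvd_card (isPGroup_core Y) h1).trans (card_dvd_of_le (core_le _ _))) hrc.symm
  have hcy := j.k.cyc_of_cent hF habF hncF (core_le _ _) (isPGroup_core Y) (j.odd hs rk h2 hr h3)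
    (le_cent_symm h') hrc
  exact hnc (cyclic_of_le hcy (l2' nt hs hr hc h3 h1 hrc hcy hE habE.isPGroup h))

theorem sol (hs : Group.IsSolvable X) (nt : NT id X) (rk : RK X)
    (h4 : ∀ p q r : ℕ, ∃ s : ℕ, s.Prime ∧ s ∣ Nat.card X ∧ s ≠ p ∧ s ≠ q ∧ s ≠ r) : False := by
  obtain ⟨s, hs1, hs2, -⟩ := h4 0 0 0
  obtain ⟨V₀, hV₀, hV1, hn, a, ha, hab⟩ := exists_min hs (NormalIn.refl X) (ne_bot_of_dvd hs1 hs2)
  obtain ⟨Y, hY⟩ := Hall_exists {a}ᶜ hs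
  obtain ⟨V, hV, hm⟩ := exists_minNormal_le hV1 (hY.le.trans hn)
  have k : Act a V Y := ⟨ha, hab.of_le hV, hm.ne_bot, hm.norm, hY.isPi,
    nt.mono (sup_le (hV.trans hV₀) hY.le)⟩
  have hsY := sol_of_le hs hY.le
  have h3 : ∀ p q : ℕ, ∃ s : ℕ, s.Prime ∧ s ∣ Nat.card Y ∧ s ≠ p ∧ s ≠ q := fun p q => by
    obtain ⟨s, h1, h2, h3, h4⟩ := h4 a p q
    exact ⟨s, h1, (hY.dvd_card_iff h1 h3).2 h2, h4⟩
  by_cases hf : Y ⊓ C[V] = ⊥
  · exact faith k hsY hf hm (rk.hall hs hY) h3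
  obtain ⟨U, hU, hU1, hUn, b, hb, habU⟩ := exists_min hsY (NormalIn.inf_cent k.norm) hf
  obtain ⟨Z, hZ⟩ := Hall_exists {b}ᶜ hsY
  have hUY := hU.trans inf_le_left
  have := Fact.mk ha
  have := Fact.mk hb
  have hba : b ≠ a := hY.isPi.mem hb
    ((IsPGroup.dvd_card habU.isPGroup hU1).trans (card_dvd_of_le hUY))
  refine Two.false ⟨k.mono hZ.le, k.sub hUY hb habU hU1 hUn hZ, fun z hz h1 => ?_⟩
    (sol_of_le hsY hZ.le) ((rk.hall hs hY).hall hsY hZ) (hall_two hZ h3)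
  by_contra! h
  obtain ⟨u, hu, hu1⟩ := exists_ne_one_of_ne_bot h.2
  obtain ⟨q, hq, hq'⟩ := Nat.exists_prime_and_dvd (orderOf_eq_one_iff.not.2 h1)
  have := k.f0 (hUY (mem_inf.1 hu).1) (hZ.le hz) (mem_cent1_iff.1 (mem_inf.1 hu).2) hb hq
    (dvd_ord habU.isPGroup (mem_inf.1 hu).1 hu1) hq' (hZ.isPi.orderOf hz q hq hq' ∘ Eq.symm)
  rw [inf_eq_left.2 (le_cent1_iff.2 (mem_inf.1 (hU (mem_inf.1 hu).1)).2)] at this
  exact h.1 this

theorem dvd_cent (hx : x ∈ X) (hc : x ∈ C₁[y]) (hg : g ∈ X) (h : conj g • zpowers y = A)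
    (hq : q ∣ orderOf x) : q ∣ Nat.card ↥(X ⊓ C[A]) := by
  have h1 : g * x * g⁻¹ ∈ X ⊓ C[A] := mem_inf.2 ⟨mul_mem (mul_mem hg hx) (inv_mem hg), by
    rw [← h, ← conj_smul_cent, cent_zpowers]
    exact mem_conj_smul_iff_exists.2 ⟨x, hc, rfl⟩⟩
  have h2 := orderOf_dvd_card_of_mem h1
  have h3 : orderOf (g * x * g⁻¹) = orderOf x := (conj g).orderOf_eq x
  exact hq.trans (h3 ▸ h2)

theorem exists_pow_ord (h : p ∣ orderOf x) : ∃ k : ℕ, orderOf (x ^ k) = p :=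
  ⟨_, orderOf_pow_orderOf_div (orderOf_pos x).ne' h⟩

theorem rk1 (hs : Group.IsSolvable X) (nt : NT κ X) (hp : p.Prime) (hq : q.Prime) (hr : r.Prime)
    (hs' : s.Prime) (h1 : ∃ x ∈ X, p ∣ orderOf x ∧ q ∣ orderOf x)
    (h2 : ∃ x ∈ X, p ∣ orderOf x ∧ r ∣ orderOf x) (h3 : ∃ x ∈ X, p ∣ orderOf x ∧ s ∣ orderOf x)
    (hpq : κ p ≠ κ q) (hpr : κ p ≠ κ r) (hps : κ p ≠ κ s) (hqr : κ q ≠ κ r) (hqs : κ q ≠ κ s)
    (hrs : κ r ≠ κ s) : ∃ E ≤ X, Abelem p E ∧ ¬ IsCyclic E := by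
  have := Fact.mk hp
  by_contra! h
  obtain ⟨P, hP⟩ := H7.exists_isSylowIn (p := p) X
  have hd : p ∣ Nat.card X := by
    obtain ⟨x, hx, e, -⟩ := h1
    exact e.trans (orderOf_dvd_card_of_mem hx)
  obtain ⟨Z, hZ, hZc, hZp⟩ := exists_central_card_prime hP.isPGroup (NormalIn.refl P) (hP.ne_bot hd)
  have key : ∀ {q : ℕ}, (∃ x ∈ X, p ∣ orderOf x ∧ q ∣ orderOf x) → q ∣ Nat.card ↥(X ⊓ C[Z]) := by
    rintro q ⟨x, hx, e1, e2⟩
    obtain ⟨k, hk⟩ := exists_pow_ord e1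
    have hc : Nat.card (zpowers (x ^ k)) = p := by rw [Nat.card_zpowers, hk]
    obtain ⟨g, hg, hgP⟩ := hP.exists_conj_le (isPGroup_of_card_prime hc)
      (zpowers_le.2 (pow_mem hx k))
    have hc' : Nat.card ↥(conj g • zpowers (x ^ k)) = p := by
      rw [← hc]; exact (Nat.card_congr (conjEquiv g _).toEquiv).symm
    refine dvd_cent hx (cent1_le_pow x k (mem_cent1_self x)) hg (eq_of_cyclic_of_card_eq
      (h _ ((sup_le hgP hZ).trans hP.le) ((Abelem.of_card_prime hp hc').sup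
        (Abelem.of_card_prime hp hZp) (hZc.trans (cent_anti hgP)))) le_sup_left le_sup_right
      (hc'.trans hZp.symm)) e2
  obtain ⟨z, hz, hz1⟩ := exists_ne_one_of_ne_bot (ne_bot_of_card_prime (hZp ▸ hp))
  exact nt.cent inf_le_left (sol_of_le hs inf_le_left) (hP.le (hZ hz))
    (inf_le_right.trans (cent_le_cent1 hz)) hp hq hr hs' (dvd_ord hP.isPGroup (hZ hz) hz1)
    (key h1) (key h2) (key h3) hpq hpr hps hqr hqs hrs

/-- the criterion of nonsolvability -/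
theorem solv (hs : Group.IsSolvable X) (nt : NT κ X) (hπ : ∀ p ∈ π, p.Prime)
    (hκ : ∀ p ∈ π, ∀ q ∈ π, p ≠ q → κ p ≠ κ q)
    (adj : ∀ p ∈ π, ∀ q ∈ π, ∃ x ∈ X, p ∣ orderOf x ∧ q ∣ orderOf x)
    (h4 : ∀ p q r : ℕ, ∃ s ∈ π, s ≠ p ∧ s ≠ q ∧ s ≠ r) : False := by
  obtain ⟨Q, hQ⟩ := Hall_exists π hs
  refine sol (sol_of_le hs hQ.le) (fun x hx p q r hp hq hr h1 h2 h3 => ?_) (fun p hp hd => ?_)
    fun p q r => ?_
  · have m1 := hQ.isPi.orderOf hx p hp h1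
    have m2 := hQ.isPi.orderOf hx q hq h2
    have m3 := hQ.isPi.orderOf hx r hr h3
    by_contra! h
    rcases nt x (hQ.le hx) p q r hp hq hr h1 h2 h3 with e | e | e
    exacts [hκ p m1 q m2 h.1 e, hκ p m1 r m3 h.2.1 e, hκ q m2 r m3 h.2.2 e]
  · have := Fact.mk hp
    have m := hQ.isPi.mem hp hd
    obtain ⟨q, hq, q1, -⟩ := h4 p p p
    obtain ⟨r, hr, r1, r2, -⟩ := h4 p q q
    obtain ⟨s, hs', s1, s2, s3⟩ := h4 p q r
    obtain ⟨E, hE, hab, hn⟩ := rk1 hs nt hp (hπ q hq) (hπ r hr) (hπ s hs') (adj p m q hq)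
      (adj p m r hr) (adj p m s hs') (hκ p m q hq q1.symm) (hκ p m r hr r1.symm)
      (hκ p m s hs' s1.symm) (hκ q hq r hr r2.symm) (hκ q hq s hs' s2.symm) (hκ r hr s hs' s3.symm)
    obtain ⟨x, -, hx⟩ := Hall_Jsub hs hQ hE (IsPGroup.isPi hab.isPGroup m)
    exact ⟨_, hx, hab.smul x, not_cyc_smul hn x⟩
  · obtain ⟨s, m, h⟩ := h4 p q r
    obtain ⟨x, hx, e, -⟩ := adj s m s m
    exact ⟨s, hπ s m, (hQ.dvd_card_iff (hπ s m) m).2 (e.trans (orderOf_dvd_card_of_mem hx)), h⟩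

end Cfsg.Agent.H6.Sq
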